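import Mathlib

/-!
# The normalizer of a Sylow subgroup of prime order: the congruence and rationality (helper657)
-/

set_option autoImplicit false

namespace Cfsg.Agent.H657.M13

open Subgroup

universe u

variable {G : Type u} [Group G] [Finite G] {p : ℕ} [hp : Fact p.Prime] {x : G}

theorem centralizer_zpowers (x : G) : centralizer ((zpowers x : Subgroup G) : Set G) = centralizer ({x} : Set G) := by
  ext g
  rw [mem_centralizer_singleton_iff, mem_centralizer_iff]
  constructor
  · intro h
    exact (h x (mem_zpowers x)).symm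
  · intro h y hy
    obtain ⟨k, rfl⟩ := mem_zpowers_iff.1 hy
    exact ((show Commute g x from h).zpow_right k).eq.symm

/-- the automizer -/
theorem exists_e (hx : orderOf x = p) (h2 : ¬ p ^ 2 ∣ Nat.card G) :
    ∃ e i : ℕ, e ∣ p - 1 ∧ i ≡ 1 [MOD p] ∧ Nat.card G = Nat.card (centralizer ({x} : Set G)) * e * i ∧
      (e = p - 1 → ∀ k : ℕ, ¬ p ∣ k → ∃ g : G, g * x * g⁻¹ = x ^ k) ∧
      (∀ g : G, ∀ n m : ℕ, g * x * g⁻¹ = x ^ n → orderOf (n : ZMod p) = m → m ∣ e) := by
  set P : Subgroup G := zpowers x with hP
  have hcP : Nat.card P = p := by rw [hP, Nat.card_zpowers, hx]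
  have hpP : IsPGroup p P := IsPGroup.of_card (n := 1) (by rw [hcP, pow_one])
  obtain ⟨S, hS⟩ := hpP.exists_le_sylow
  have hSP : P = S := by
    refine Subgroup.eq_of_le_of_card_ge hS ?_
    obtain ⟨n, hn⟩ := IsPGroup.iff_card.1 S.2
    rw [hn, hcP]
    have h3 : n ≤ 1 := by
      by_contra h4
      exact h2 ((pow_dvd_pow p (by omega)).trans (hn ▸ Subgroup.card_subgroup_dvd_card (S : Subgroup G)))
    calc p ^ n ≤ p ^ 1 := Nat.pow_le_pow_right hp.out.pos h3
      _ = p := pow_one p
  let φ := P.normalizerMonoidHom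
  have hcyc : IsCyclic P := by rw [hP]; infer_instance
  have hfin : Finite (MulAut P) := inferInstance
  have hker : φ.ker = (centralizer ((P : Subgroup G) : Set G)).subgroupOf (normalizer (P : Set G)) :=
    Subgroup.normalizerMonoidHom_ker P
  have hle : centralizer ((P : Subgroup G) : Set G) ≤ normalizer (P : Set G) := centralizer_le_normalizer _
  have hkc : Nat.card φ.ker = Nat.card (centralizer ({x} : Set G)) := by
    rw [hker, Nat.card_congr (Subgroup.subgroupOfEquivOfLe hle).toEquiv, hP, centralizer_zpowers]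
  have hMA : Nat.card (MulAut P) = p - 1 := by
    rw [IsCyclic.card_mulAut, hcP, Nat.totient_prime hp.out]
  have hN := φ.ker.card_mul_index
  rw [Subgroup.index_ker, hkc] at hN
  have hidx := (normalizer (P : Set G)).card_mul_index
  rw [← hN] at hidx
  have hmod : (normalizer (P : Set G)).index ≡ 1 [MOD p] := by
    have h3 := card_sylow_modEq_one p G
    rw [S.card_eq_index_normalizer] at h3
    rw [hSP]
    exact h3
  have hphi : ∀ (g : normalizer (P : Set G)) (r : P), ((φ g r : P) : G) = (g : G) * r * (g : G)⁻¹ := fun _ _ => rfl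
  refine ⟨Nat.card φ.range, (normalizer (P : Set G)).index, ?_, hmod, hidx.symm, ?_, ?_⟩
  · rw [← hMA]
    exact Subgroup.card_subgroup_dvd_card _
  · intro he k hk
    have htop : φ.range = ⊤ := by
      apply Subgroup.eq_top_of_card_eq
      rw [he, hMA]
    -- the power automorphism
    have hcop : (Nat.card P).Coprime k := by
      rw [hcP]
      exact (Nat.Prime.coprime_iff_not_dvd hp.out).2 hk
    let ψ : MulAut P := { powCoprime hcop with
      map_mul' := by
        intro a b
        change (a * b) ^ k = a ^ k * b ^ k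
        have hc : Commute a b := by
          have : IsMulCommutative P := IsCyclic.isMulCommutative
          exact this.is_comm.comm a b
        exact hc.mul_pow k }
    have h3 : ψ ∈ φ.range := by rw [htop]; exact mem_top _
    obtain ⟨g, hg⟩ := h3
    refine ⟨g, ?_⟩
    have h4 := congrArg (fun f : MulAut P => ((f ⟨x, mem_zpowers x⟩ : P) : G)) hg
    change (g : G) * x * (g : G)⁻¹ = ((((⟨x, mem_zpowers x⟩ : P) ^ k : P)) : G) at h4
    rw [SubgroupClass.coe_pow] at h4
    exact h4
  · intro g n m hg hm
    have hgN : g ∈ normalizer (P : Set G) := by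
      have hle' : P.map (MulAut.conj g).toMonoidHom ≤ P := by
        rintro _ ⟨y, hy, rfl⟩
        obtain ⟨k, rfl⟩ := mem_zpowers_iff.1 hy
        change g * x ^ k * g⁻¹ ∈ P
        rw [← conj_zpow, hg]
        exact zpow_mem (pow_mem (mem_zpowers x) n) k
      have heq : P.map (MulAut.conj g).toMonoidHom = P := by
        refine Subgroup.eq_of_le_of_card_ge hle' ?_
        rw [Subgroup.card_map_of_injective (MulAut.conj g).injective]
      rw [mem_normalizer_iff]
      intro y
      constructor
      · intro hy
        rw [← heq]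
        exact ⟨y, hy, rfl⟩
      · intro hy
        rw [← heq] at hy
        obtain ⟨w, hw, hwy⟩ := hy
        have : w = y := by
          apply (MulAut.conj g).injective
          exact hwy
        rw [← this]
        exact hw
    have hpow : ∀ j : ℕ, g ^ j * x * (g ^ j)⁻¹ = x ^ (n ^ j) := by
      intro j
      induction j with
      | zero => rw [pow_zero, pow_zero, pow_one, one_mul, inv_one, mul_one]
      | succ j ih =>
        have e1 : g ^ (j + 1) * x * (g ^ (j + 1))⁻¹ = g * (g ^ j * x * (g ^ j)⁻¹) * g⁻¹ := by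
          rw [pow_succ']
          group
        rw [e1, ih, ← conj_pow, hg, ← pow_mul, pow_succ, mul_comm]
    have h3 : orderOf (φ ⟨g, hgN⟩) = m := by
      rw [← hm]
      apply orderOf_eq_orderOf_iff.2
      intro j
      have h4 : (φ ⟨g, hgN⟩) ^ j = 1 ↔ g ^ j * x * (g ^ j)⁻¹ = x := by
        rw [← map_pow]
        constructor
        · intro h5
          have h6 := congrArg (fun f : MulAut P => ((f ⟨x, mem_zpowers x⟩ : P) : G)) h5
          exact h6
        · intro h5
          apply MulEquiv.ext
          intro y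
          apply Subtype.ext
          obtain ⟨y, hy⟩ := y
          obtain ⟨k, rfl⟩ := mem_zpowers_iff.1 hy
          change g ^ j * x ^ k * (g ^ j)⁻¹ = x ^ k
          rw [← conj_zpow, h5]
      rw [h4, hpow]
      have h5 : x ^ n ^ j = x ↔ x ^ n ^ j = x ^ 1 := by rw [pow_one]
      rw [h5, pow_eq_pow_iff_modEq, hx, ← ZMod.natCast_eq_natCast_iff, Nat.cast_one, Nat.cast_pow]
    rw [← h3]
    have h6 : orderOf (⟨φ ⟨g, hgN⟩, ⟨_, rfl⟩⟩ : φ.range) = orderOf (φ ⟨g, hgN⟩) := Subgroup.orderOf_mk _ _
    rw [← h6]
    exact orderOf_dvd_natCard _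

end Cfsg.Agent.H657.M13
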