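import Cfsg.Agent.H657.M13.CentM
import Cfsg.Agent.H657.M13.SylE

/-!
# The Monster: the elements of order 13 commuting with a 2A-involution are rational (helper657)
-/

set_option autoImplicit false
set_option maxRecDepth 100000
set_option linter.unusedSectionVars false

namespace Cfsg.Agent.H657.M13

open Subgroup Cfsg
open Cfsg.Agent.H182.Bad
open Cfsg.Lie Cfsg.Agent.Bimonster Cfsg.Agent.Bimonster.Tits Cfsg.Agent.BabyU
open Cfsg.Agent.MonsterX.KSide Cfsg.Agent.MonsterX.KLift Cfsg.Agent.MonsterX.KModel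
open Cfsg.Agent.MonsterX.Model Cfsg.Agent.MonsterX.MainPack Cfsg.Agent.MonsterX.MainSimple
open Cfsg.Agent.MonsterX.MainBasic Cfsg.Agent.MonsterU.Assembly Cfsg.Agent.MonsterN.Lit Cfsg.Agent.MonsterN
open Cfsg.Agent.MonsterN.LitInst Cfsg.Agent.MonsterU.Lam2 Cfsg.Agent.MonsterU.TwoCls
open Cfsg.Agent.BabyComp Cfsg.Agent.R01.Lifts
open Cfsg.Agent.BpSpor.MBigPure
open Cfsg.Agent.MonsterX Cfsg.Agent.MonsterX.InstData Cfsg.Agent.MonsterP Cfsg.Agent.BpSpor.MBigModel
open Cfsg.Agent.LThreeB.Row (TA)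
open Cfsg.Agent.MThirteen
open Cfsg.Agent.H182.Bad.BLift (lift13 comm_lift exists_cover)

/-- all elements of order 13 of the Baby Monster are rational -/
theorem rat_b {y : Spor.BabyMonster} (hy : orderOf y = 13) {k : ℕ} (hk : ¬ 13 ∣ k) : ∃ g, g * y * g⁻¹ = y ^ k := by
  have hfB := H182.Bad.RowB.finite_b
  have h13 : Fact (Nat.Prime 13) := ⟨by norm_num⟩
  obtain ⟨hcard, -⟩ := H139.LD.struct13_model hy
  obtain ⟨e, i, he, hi, hc, h1, -⟩ := exists_e hy (by
    rw [H182.Bad.RowB.card_b]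
    norm_num)
  rw [hcard, H182.Bad.RowB.card_b] at hc
  have h2 : e * i = 13316607311623160869158912000000 := by
    have : 312 * (e * i) = 312 * 13316607311623160869158912000000 := by
      rw [← mul_assoc, ← hc]
    omega
  have h3 : (e * i) % 13 = e % 13 := by
    have h4 : e * i ≡ e * 1 [MOD 13] := hi.mul_left e
    rw [mul_one] at h4
    exact h4
  rw [h2] at h3
  have h4 : e ∣ 12 := he
  have h5 : e ≤ 12 := Nat.le_of_dvd (by norm_num) h4
  refine h1 ?_ k hk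
  omega

theorem rat_base {u : BB KDone.K KLinkInst.x₀} (hu : orderOf u = 13) {k : ℕ} (hk : ¬ 13 ∣ k) :
    ∃ g, g * u * g⁻¹ = u ^ k := by
  have hfB := H182.Bad.RowB.finite_b
  have hfin : Finite MG := MThirteen.Row.finite
  obtain ⟨q, d, hq, hdd, hqd⟩ := exists_cover
  have hqu : orderOf (q u) = 13 := by
    have h13 : Fact (Nat.Prime 13) := ⟨by norm_num⟩
    refine orderOf_eq_prime ?_ ?_
    · rw [← map_pow, ← hu, pow_orderOf_eq_one, map_one]
    · intro h1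
      rcases (hq.ker _).1 h1 with h2 | h2
      · rw [h2, orderOf_one] at hu
        norm_num at hu
      · have h3 : u * u = 1 := by rw [h2]; exact hq.zz
        have h4 := orderOf_dvd_of_pow_eq_one (show u ^ 2 = 1 by rw [pow_two, h3])
        rw [hu] at h4
        norm_num at h4
  obtain ⟨g, hg⟩ := rat_b hqu hk
  obtain ⟨g', rfl⟩ := hq.surj g
  refine ⟨g', ?_⟩
  have h1 : q ((u ^ k)⁻¹ * (g' * u * g'⁻¹)) = 1 := by
    rw [map_mul, map_inv, map_mul, map_mul, map_inv, map_pow, hg, inv_mul_cancel]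
  have hu13 : u ^ 13 = 1 := by rw [← hu, pow_orderOf_eq_one]
  rcases (hq.ker _).1 h1 with h2 | h2
  · exact (inv_mul_eq_one.1 h2).symm
  · exfalso
    have h3 : g' * u * g'⁻¹ = u ^ k * tb KDone.K KLinkInst.x₀ := by
      rw [← h2]; group
    have h4 : (g' * u * g'⁻¹) ^ 13 = 1 := by rw [conj_pow, hu13]; group
    have h5 : Commute (u ^ k) (tb KDone.K KLinkInst.x₀) := hq.comm _
    have h6 : (tb KDone.K KLinkInst.x₀) ^ 13 = tb KDone.K KLinkInst.x₀ := by
      have h7 : (tb KDone.K KLinkInst.x₀) ^ 2 = 1 := by rw [pow_two]; exact hq.zz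
      calc (tb KDone.K KLinkInst.x₀) ^ 13 = ((tb KDone.K KLinkInst.x₀) ^ 2) ^ 6 * tb KDone.K KLinkInst.x₀ := by
            rw [← pow_mul, ← pow_succ]
        _ = _ := by rw [h7, one_pow, one_mul]
    rw [h3, h5.mul_pow, ← pow_mul, mul_comm, pow_mul, hu13, one_pow, one_mul, h6] at h4
    exact hq.zne h4

/-- **Rationality of 13A.** -/
theorem rat_a {x u : MG} (hx : orderOf x = 13) (hu : TA u) (hxu : x * u = u * x) {k : ℕ} (hk : ¬ 13 ∣ k) :
    IsConj x (x ^ k) := by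
  obtain ⟨g, hg⟩ := isConj_iff.1 (isConj_ta hu)
  obtain ⟨y, hy⟩ : ∃ y, y = g * x * g⁻¹ := ⟨_, rfl⟩
  have hyo : orderOf y = 13 := by
    have := MulEquiv.orderOf_eq (MulAut.conj g) x
    rw [MulAut.conj_apply] at this
    rw [hy, this, hx]
  have hyt : y * KDone.K.ι KLinkInst.x₀ = KDone.K.ι KLinkInst.x₀ * y := by
    rw [hy, ← hg]
    calc g * x * g⁻¹ * (g * u * g⁻¹) = g * (x * u) * g⁻¹ := by group
      _ = g * (u * x) * g⁻¹ := by rw [hxu]
      _ = g * u * g⁻¹ * (g * x * g⁻¹) := by group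
  obtain ⟨v, hv⟩ : ∃ v : BB KDone.K KLinkInst.x₀, (v : MG) = y := ⟨⟨y, mem_centralizer_singleton_iff.2 hyt⟩, rfl⟩
  have hvo : orderOf v = 13 := by rw [← Subgroup.orderOf_coe, hv, hyo]
  obtain ⟨c, hc⟩ := rat_base hvo hk
  have h1 : (c : MG) * y * (c : MG)⁻¹ = y ^ k := by
    have := congrArg Subtype.val hc
    rw [Subgroup.coe_mul, Subgroup.coe_mul, hv] at this
    rw [InvMemClass.coe_inv, SubmonoidClass.coe_pow, hv] at this
    exact this
  refine isConj_iff.2 ⟨g⁻¹ * c * g, ?_⟩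
  calc g⁻¹ * c * g * x * (g⁻¹ * c * g)⁻¹ = g⁻¹ * (c * (g * x * g⁻¹) * (c : MG)⁻¹) * g := by group
    _ = g⁻¹ * (g * x * g⁻¹) ^ k * g := by rw [← hy, h1]
    _ = x ^ k := by rw [conj_pow]; group

end Cfsg.Agent.H657.M13
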