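import Cfsg.Agent.H994.M23.Norm

/-!
# Sylow subgroups of `C(a) = ⟨a⟩ × L` (helper657)
-/

set_option autoImplicit false

namespace Cfsg.Agent.H657.M13

open Subgroup
open Cfsg.Agent.H994.M23.Norm (Sp)

theorem card_sylow_of_surj {C Q : Type*} [Group C] [Finite C] [Group Q] {p : ℕ} [Fact p.Prime] {f : C →* Q}
    (hf : Function.Surjective f) (hk : IsPGroup p f.ker) : Nat.card (Sylow p C) = Nat.card (Sylow p Q) := by
  refine Nat.card_congr
    { toFun := fun P => P.mapSurjective hf
      invFun := fun P => P.comapOfKerIsPGroup f hk (by rw [MonoidHom.range_eq_top.2 hf]; exact le_top)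
      left_inv := fun P => ?_
      right_inv := fun P => ?_ }
  · apply Sylow.ext
    refine P.is_maximal' (Sylow.isPGroup' _) ?_
    exact Subgroup.le_comap_map f _
  · apply Sylow.ext
    exact Subgroup.map_comap_eq_self_of_surjective hf _

theorem card_sylow_cent {G : Type*} [Group G] [Finite G] {a : G} {L : Subgroup G} (hS : Sp 13 a L) {m : ℕ}
    (hL : Nat.card (Sylow 13 L) = m) : Nat.card (Sylow 13 (centralizer ({a} : Set G))) = m := by
  have hp : Fact (Nat.Prime 13) := ⟨by norm_num⟩
  let aC : ↥(centralizer ({a} : Set G)) := ⟨a, mem_centralizer_singleton_iff.2 rfl⟩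
  have hcen : ∀ c : ↥(centralizer ({a} : Set G)), c * aC = aC * c := fun c =>
    Subtype.ext (mem_centralizer_singleton_iff.1 c.2)
  have hnor : (zpowers aC).Normal := by
    constructor
    intro b hb g
    obtain ⟨i, rfl⟩ := mem_zpowers_iff.1 hb
    have h1 : g * aC ^ i * g⁻¹ = aC ^ i := by
      rw [((show Commute g aC from hcen g).zpow_right i).eq, mul_inv_cancel_right]
    rw [h1]
    exact hb
  let q : ↥(centralizer ({a} : Set G)) →* ↥(centralizer ({a} : Set G)) ⧸ zpowers aC := QuotientGroup.mk' _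
  let g : ↥L →* ↥(centralizer ({a} : Set G)) ⧸ zpowers aC := q.comp (Subgroup.inclusion hS.le)
  have h1 : Nat.card (Sylow 13 (centralizer ({a} : Set G))) =
      Nat.card (Sylow 13 (↥(centralizer ({a} : Set G)) ⧸ zpowers aC)) := by
    refine card_sylow_of_surj (f := q) (QuotientGroup.mk'_surjective _) ?_
    rw [QuotientGroup.ker_mk']
    exact IsPGroup.of_card (n := 1) (by rw [Nat.card_zpowers, Subgroup.orderOf_mk, hS.ord, pow_one])
  have h2 : Nat.card (Sylow 13 L) = Nat.card (Sylow 13 (↥(centralizer ({a} : Set G)) ⧸ zpowers aC)) := by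
    refine card_sylow_of_surj (f := g) ?_ ?_
    · intro y
      obtain ⟨c, rfl⟩ := QuotientGroup.mk'_surjective _ y
      obtain ⟨i, l, hl, hc⟩ := hS.split c c.2
      refine ⟨⟨l, hl⟩, ?_⟩
      refine (QuotientGroup.eq (s := zpowers aC)).2 ?_
      refine mem_zpowers_iff.2 ⟨i, Subtype.ext ?_⟩
      have h3 : Commute (a ^ i) l := (hS.comm hl).pow_left i
      show (aC ^ (i : ℤ) : ↥(centralizer ({a} : Set G))).1 = l⁻¹ * (c : G)
      rw [hc, SubgroupClass.coe_zpow, zpow_natCast]
      show a ^ i = l⁻¹ * (a ^ i * l)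
      rw [h3.eq]
      group
    · have h3 : g.ker = ⊥ := by
        rw [eq_bot_iff]
        intro l hl
        have h4 : (Subgroup.inclusion hS.le l) ∈ zpowers aC := (QuotientGroup.eq_one_iff _).1 hl
        obtain ⟨i, hi⟩ := mem_zpowers_iff.1 h4
        have h5 : a ^ i = (l : G) := by
          have := congrArg Subtype.val hi
          rw [SubgroupClass.coe_zpow] at this
          exact this
        have h6 : (l : G) ∈ zpowers a ⊓ L := ⟨mem_zpowers_iff.2 ⟨i, h5⟩, l.2⟩
        rw [disjoint_iff.1 hS.disj] at h6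
        exact Subtype.ext (Subgroup.mem_bot.1 h6)
      rw [h3]
      exact IsPGroup.of_bot
  rw [h1, ← h2, hL]

end Cfsg.Agent.H657.M13
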