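import Cfsg.Agent.H657.M13.Cls
import Cfsg.Agent.H657.M13.Data
import Cfsg.Agent.H657.M13.RatA
import Cfsg.Agent.H657.M13.SylC
import Cfsg.Agent.H792.M23.Z13

/-!
# The elements of order 13 of the Monster: all the facts (helper657)
-/

set_option autoImplicit false
set_option maxRecDepth 100000
set_option linter.unusedSectionVars false

namespace Cfsg.Agent.H657.M13

open Subgroup Cfsg
open Cfsg.Agent.H609.Inv.Thirteen
open Cfsg.Agent.H131.T5M13 (D TB zp exists_syl exists_conj_le exists_nat_pow mem_normalizer_of)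
open Cfsg.Agent.H131.T5Cube (Cu)
open Cfsg.Agent.H994.M23.Norm (Sp)
open Cfsg.Agent.H182.Bad
open Cfsg.Lie Cfsg.Agent.Bimonster Cfsg.Agent.Bimonster.Tits Cfsg.Agent.BabyU
open Cfsg.Agent.MonsterX.KSide Cfsg.Agent.MonsterX.KLift Cfsg.Agent.MonsterX.KModel
open Cfsg.Agent.MonsterX.Model Cfsg.Agent.MonsterX.MainPack Cfsg.Agent.MonsterX.MainSimple
open Cfsg.Agent.MonsterX.MainBasic Cfsg.Agent.MonsterU.Assembly Cfsg.Agent.MonsterN.Lit Cfsg.Agent.MonsterN
open Cfsg.Agent.MonsterN.LitInst Cfsg.Agent.MonsterU.Lam2 Cfsg.Agent.MonsterU.TwoCls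
open Cfsg.Agent.BpSpor.MBigPure
open Cfsg.Agent.MonsterX Cfsg.Agent.MonsterX.InstData Cfsg.Agent.MonsterP Cfsg.Agent.BpSpor.MBigModel
open Cfsg.Agent.LThreeB.Row (TA)

/-- the facts -/
structure Fct {G : Type} [Group G] (a x t : G) (L R : Subgroup G) : Prop where
  sp : Sp 13 a L
  iso : Nonempty (L ≃* Matrix.SpecialLinearGroup (Fin 3) (ZMod 3))
  ca : Nat.card ↥(centralizer ({a} : Set G)) = 73008
  sa : Nat.card (Sylow 13 (centralizer ({a} : Set G))) = 144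
  ox : orderOf x = 13
  cx : Nat.card ↥(centralizer ({x} : Set G)) = 52728
  cR : Nat.card ↥R = 2197
  Rx : R ≤ centralizer ({x} : Set G)
  nR : ∀ c ∈ centralizer ({x} : Set G), ∀ r ∈ R, c * r * c⁻¹ ∈ R
  na : ∃ r ∈ R, ∃ s ∈ R, r * s ≠ s * r
  ex : ∀ r ∈ R, r ^ 13 = 1
  h4 : ¬ 13 ^ 4 ∣ Nat.card G
  ra : ∀ k : ℕ, ¬ 13 ∣ k → IsConj a (a ^ k)
  rx : ∀ k : ℕ, ¬ 13 ∣ k → IsConj x (x ^ k)
  ax : ¬ IsConj a x
  cl : ∀ y : G, orderOf y = 13 → IsConj a y ∨ IsConj x y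
  ot : orderOf t = 2
  iv : ∀ u : G, orderOf u = 2 → u * a = a * u → IsConj t u

/-- from the centralizer to `Sp` -/
theorem sp_of {G : Type} [Group G] {Y : Type} [Group Y] {a : G} (ha : orderOf a = 13)
    (h1 : Nat.card ↥(centralizer ({a} : Set G)) = 73008) {L : Subgroup ↥(centralizer ({a} : Set G))}
    (hLb : L ⊓ zpowers (⟨a, mem_centralizer_singleton_iff.2 rfl⟩ : ↥(centralizer ({a} : Set G))) = ⊥)
    (hLt : L ⊔ zpowers (⟨a, mem_centralizer_singleton_iff.2 rfl⟩ : ↥(centralizer ({a} : Set G))) = ⊤)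
    (hLc : Nat.card L = 5616) (e : L ≃* Y) :
    ∃ L : Subgroup G, Sp 13 a L ∧ Nat.card L = 5616 ∧ Nonempty (L ≃* Y) := by
  have hex : ∀ i : ℤ, ∃ j : ℕ, a ^ j = a ^ i := fun i => by
    refine ⟨(i % 13).toNat, ?_⟩
    have h2 : ((i % 13).toNat : ℤ) = i % 13 := Int.toNat_of_nonneg (Int.emod_nonneg _ (by norm_num))
    rw [← zpow_natCast, h2, ← zpow_mod_orderOf a i, ha]
    rfl
  have hzn : (zpowers (⟨a, mem_centralizer_singleton_iff.2 rfl⟩ : ↥(centralizer ({a} : Set G)))).Normal := by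
    constructor
    intro b hb g
    obtain ⟨i, rfl⟩ := mem_zpowers_iff.1 hb
    have h5 : g * (⟨a, mem_centralizer_singleton_iff.2 rfl⟩ : ↥(centralizer ({a} : Set G))) =
        (⟨a, mem_centralizer_singleton_iff.2 rfl⟩ : ↥(centralizer ({a} : Set G))) * g :=
      Subtype.ext (mem_centralizer_singleton_iff.1 g.2)
    have h6 : g * (⟨a, mem_centralizer_singleton_iff.2 rfl⟩ : ↥(centralizer ({a} : Set G))) ^ i * g⁻¹ =
        (⟨a, mem_centralizer_singleton_iff.2 rfl⟩ : ↥(centralizer ({a} : Set G))) ^ i := by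
      rw [((show Commute g _ from h5).zpow_right i).eq, mul_inv_cancel_right]
    rw [h6]
    exact hb
  refine ⟨L.map (centralizer ({a} : Set G)).subtype, ⟨ha, ?_, ?_, ?_, ?_⟩, ?_,
    ⟨(L.equivMapOfInjective _ (Subgroup.subtype_injective _)).symm.trans e⟩⟩
  · rintro _ ⟨l, -, rfl⟩
    exact l.2
  · rw [h1, Subgroup.card_map_of_injective (Subgroup.subtype_injective _), hLc]
  · intro c hc
    have h2 : (⟨c, hc⟩ : ↥(centralizer ({a} : Set G))) ∈
        L ⊔ zpowers (⟨a, mem_centralizer_singleton_iff.2 rfl⟩ : ↥(centralizer ({a} : Set G))) := by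
      rw [hLt]; exact mem_top _
    obtain ⟨l, hl, b, hb, hlb⟩ := Subgroup.mem_sup_of_normal_right.1 h2
    obtain ⟨i, hi⟩ := mem_zpowers_iff.1 hb
    obtain ⟨j, hj⟩ := hex i
    refine ⟨j, l, ⟨l, hl, rfl⟩, ?_⟩
    have h3 : (l : G) * (b : G) = c := congrArg Subtype.val hlb
    have h4 : (b : G) = a ^ i := by
      rw [← hi, SubgroupClass.coe_zpow]
    rw [← h3, h4, hj]
    exact ((show Commute (l : G) a from mem_centralizer_singleton_iff.1 l.2).zpow_right i).eq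
  · rw [disjoint_iff, eq_bot_iff]
    rintro y ⟨hy1, hy2⟩
    obtain ⟨i, hi⟩ := mem_zpowers_iff.1 hy1
    obtain ⟨l, hl, hly⟩ := hy2
    have h2 : l ∈ L ⊓ zpowers (⟨a, mem_centralizer_singleton_iff.2 rfl⟩ : ↥(centralizer ({a} : Set G))) := by
      refine ⟨hl, mem_zpowers_iff.2 ⟨i, Subtype.ext ?_⟩⟩
      rw [SubgroupClass.coe_zpow]
      show a ^ i = (l : G)
      rw [hi]
      exact hly.symm
    rw [hLb] at h2
    rw [Subgroup.mem_bot] at h2 ⊢
    rw [← hly, h2]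
    rfl
  · rw [Subgroup.card_map_of_injective (Subgroup.subtype_injective _), hLc]

/-- `C(a)` for bad `a` -/
theorem sp_of_bad {a u : MG} (ha : orderOf a = 13) (hza : ¬ TB KDone.K.z a) (hu : orderOf u = 2) (hua : u * a = a * u) :
    Nat.card ↥(centralizer ({a} : Set MG)) = 73008 ∧ ∃ L : Subgroup MG, Sp 13 a L ∧ Nat.card L = 5616 ∧
      Nonempty (L ≃* Matrix.SpecialLinearGroup (Fin 3) (ZMod 3)) := by
  obtain ⟨h1, L, -, hLb, hLt, hLc, ⟨e⟩⟩ := centA ha (fun g hg => hza ⟨g, hg.symm⟩) ⟨u, hu, hua⟩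
  exact ⟨h1, sp_of ha h1 hLb hLt hLc e⟩

/-- **All the facts.** -/
theorem facts {t : MG} (ht : TA t) : ∃ (a x : MG) (L R : Subgroup MG), Fct a x t L R := by
  have hfin : Finite MG := MThirteen.Row.finite
  obtain ⟨x, Q, hD⟩ := exists_D
  obtain ⟨R, W, hr, hcu⟩ := exists_cu hD
  obtain ⟨a, hao, hat, hza⟩ := hD.exists_bad
  have hta : TA (tG KDone.mGroup KDone.mRep) := IsConj.refl _
  have hra : ∀ k : ℕ, ¬ 13 ∣ k → IsConj a (a ^ k) := fun k hk => rat_a hao hta hat hk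
  have hrx : ∀ k : ℕ, ¬ 13 ∣ k → IsConj x (x ^ k) := fun k hk => H792.M23.Z13.rat_z hD.hyp.hx hD.hyp.zx k hk
  have hexp : ∀ r ∈ R, r ^ 13 = 1 := fun r hr' => exp13 hD hr hcu hr'
  obtain ⟨hca, L, hS, hLc, ⟨e⟩⟩ := sp_of_bad hao hza hD.ot hat.symm
  obtain ⟨hcx, hnR⟩ := card_cx hD hr (H792.M23.Z13.card_cz hD.hyp.hx hD.hyp.zx)
    (fun y q hy hq yx qx yz qz yq => H792.M23.Z13.no156 hD.hyp.hx hD.hyp.zx hy hq yx qx yz qz yq)
    (fun a' ha' hza' ha'x n hna hnx hn => by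
      obtain ⟨g, hg⟩ := isConj_iff.1 (isConj_bad hD hcu hao ha' hza hza' hra)
      obtain ⟨-, L', hS', -, ⟨e'⟩⟩ := sp_of_bad (u := g * tG KDone.mGroup KDone.mRep * g⁻¹) ha' hza'
        (by rw [Cfsg.Agent.H131.T5M13.orderOf_conj', hD.ot]) (by
          rw [← hg]
          calc g * tG KDone.mGroup KDone.mRep * g⁻¹ * (g * a * g⁻¹) = g * (tG KDone.mGroup KDone.mRep * a) * g⁻¹ := by group
            _ = g * (a * tG KDone.mGroup KDone.mRep) * g⁻¹ := by rw [hat]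
            _ = _ := by group)
      refine cent_two hS' e' ha'x.symm hD.hyp.hx ?_ hna hnx hn
      intro hxa
      obtain ⟨i, hi⟩ := mem_zpowers_iff.1 hxa
      apply hza'
      refine TB.of_pow ha' (i := i) ?_ (by rw [hi]; exact tb_x hD)
      rw [hi]
      intro h1
      have := hD.hyp.hx
      rw [h1, orderOf_one] at this
      norm_num at this) hexp
  refine ⟨a, x, L, R, hS, ⟨e⟩, hca, card_sylow_cent hS (Cfsg.Agent.H266.M13.card_sylow e), hD.hyp.hx, hcx,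
    by rw [hr.card]; norm_num, fun r hr' => mem_centralizer_singleton_iff.2 (hr.cen r hr'), hnR, hcu.nc, hexp,
    hD.hyp.h4, hra, hrx, not_conj hD hza, classes hD hcu hao hza hra hrx, ?_, ?_⟩
  · obtain ⟨g, hg⟩ := isConj_iff.1 (show IsConj (tG KDone.mGroup KDone.mRep) t from ht)
    rw [← hg, Cfsg.Agent.H131.T5M13.orderOf_conj', hD.ot]
  · intro u hu hua
    rcases hD.cls u hu with h1 | h1
    · exfalso
      obtain ⟨g, hg⟩ := isConj_iff.1 h1
      exact hza ⟨g, by rw [hg]; exact hua.symm⟩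
    · exact (show IsConj (tG KDone.mGroup KDone.mRep) t from ht).symm.trans h1

end Cfsg.Agent.H657.M13
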