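import Cfsg.Agent.H657.M13.Facts

/-!
# The Monster: the centralizers of the elements of order 13 (helper657)
-/

set_option autoImplicit false
set_option maxRecDepth 100000
set_option linter.unusedSectionVars false

namespace Cfsg.Agent.H657.M13

open Subgroup Cfsg
open Cfsg.Agent.MonsterX Cfsg.Agent.MonsterX.InstData Cfsg.Agent.MonsterX.MainPack Cfsg.Agent.MonsterX.KModel
open Cfsg.Agent.LThreeB.Row (TA)
open Cfsg.Agent.BpSpor.MBigModel Cfsg.Agent.MonsterP Cfsg.Agent.MonsterX.MainSimple Cfsg.Agent.MonsterX.MainBasic Cfsg.Agent.MonsterX.Model Cfsg.Agent.BpSpor.MBigPure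

theorem card_cent_conj {G : Type*} [Group G] {a y : G} (h : IsConj a y) :
    Nat.card ↥(centralizer ({a} : Set G)) = Nat.card ↥(centralizer ({y} : Set G)) := by
  obtain ⟨g, rfl⟩ := isConj_iff.1 h
  have h3 : (centralizer ({a} : Set G)).map (MulAut.conj g).toMonoidHom = centralizer ({g * a * g⁻¹} : Set G) := by
    ext y
    rw [mem_map, mem_centralizer_singleton_iff]
    constructor
    · rintro ⟨w, hw, rfl⟩
      have hw' := mem_centralizer_singleton_iff.1 hw
      show g * w * g⁻¹ * (g * a * g⁻¹) = g * a * g⁻¹ * (g * w * g⁻¹)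
      calc g * w * g⁻¹ * (g * a * g⁻¹) = g * (w * a) * g⁻¹ := by group
        _ = g * (a * w) * g⁻¹ := by rw [hw']
        _ = _ := by group
    · intro hy
      refine ⟨g⁻¹ * y * g, mem_centralizer_singleton_iff.2 ?_, by show g * (g⁻¹ * y * g) * g⁻¹ = y; group⟩
      calc g⁻¹ * y * g * a = g⁻¹ * (y * (g * a * g⁻¹)) * g := by group
        _ = g⁻¹ * (g * a * g⁻¹ * y) * g := by rw [hy]
        _ = _ := by group
  rw [← h3, Subgroup.card_map_of_injective (MulAut.conj g).injective]

/-- the two classes of elements of order 13, without `TA` -/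
theorem exists_fct : ∃ (a x t : MG) (L R : Subgroup MG), Fct a x t L R := by
  obtain ⟨a, x, L, R, h⟩ := facts (t := tG KDone.mGroup KDone.mRep) (IsConj.refl _)
  exact ⟨a, x, _, L, R, h⟩

/-- **`|C(x)|` for `x` of order 13.** -/
theorem card_cent13 {x : MG} (hx : orderOf x = 13) : Nat.card ↥(centralizer ({x} : Set MG)) = 73008 ∨
    Nat.card ↥(centralizer ({x} : Set MG)) = 52728 := by
  obtain ⟨a, y, t, L, R, F⟩ := exists_fct
  rcases F.cl x hx with h | h
  · left; rw [← card_cent_conj h, F.ca]
  · right; rw [← card_cent_conj h, F.cx]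

/-- all elements of order 13 are rational -/
theorem rat13 {x : MG} (hx : orderOf x = 13) {k : ℕ} (hk : ¬ 13 ∣ k) : IsConj x (x ^ k) := by
  obtain ⟨a, y, t, L, R, F⟩ := exists_fct
  have key : ∀ {b : MG}, IsConj b x → IsConj b (b ^ k) → IsConj x (x ^ k) := by
    intro b hb hbk
    obtain ⟨g, rfl⟩ := isConj_iff.1 hb
    have h1 : IsConj (b ^ k) ((g * b * g⁻¹) ^ k) := isConj_iff.2 ⟨g, by rw [conj_pow]⟩
    exact hb.symm.trans (hbk.trans h1)
  rcases F.cl x hx with h | h
  · exact key h (F.ra k hk)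
  · exact key h (F.rx k hk)

/-- `|C(g)| ≤ 73008` if a power of `g` has order 13 -/
theorem card_cent_le {g x : MG} (hxg : x ∈ zpowers g) (hx : orderOf x = 13) :
    Nat.card ↥(centralizer ({g} : Set MG)) ≤ 73008 := by
  have hfin : Finite MG := MThirteen.Row.finite
  have h1 : centralizer ({g} : Set MG) ≤ centralizer ({x} : Set MG) := by
    intro c hc
    obtain ⟨k, rfl⟩ := mem_zpowers_iff.1 hxg
    exact mem_centralizer_singleton_iff.2 ((show Commute c g from mem_centralizer_singleton_iff.1 hc).zpow_right k).eq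
  have h2 := Subgroup.card_le_of_le h1
  rcases card_cent13 hx with h | h <;> omega

theorem card_cent_dvd {g x : MG} (hxg : x ∈ zpowers g) (hx : orderOf x = 13) :
    Nat.card ↥(centralizer ({g} : Set MG)) ∣ 73008 ∨ Nat.card ↥(centralizer ({g} : Set MG)) ∣ 52728 := by
  have hfin : Finite MG := MThirteen.Row.finite
  have h1 : centralizer ({g} : Set MG) ≤ centralizer ({x} : Set MG) := by
    intro c hc
    obtain ⟨k, rfl⟩ := mem_zpowers_iff.1 hxg
    exact mem_centralizer_singleton_iff.2 ((show Commute c g from mem_centralizer_singleton_iff.1 hc).zpow_right k).eq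
  have h2 := Subgroup.card_dvd_of_le h1
  rcases card_cent13 hx with h | h
  · left; rwa [h] at h2
  · right; rwa [h] at h2

end Cfsg.Agent.H657.M13
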