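import Cfsg.Agent.H609.Inv.MThirC
import Cfsg.Agent.H794.MonCore

/-!
# `C(x)` for `x` in 13B (helper657)

In the configuration `D x z t Q` with `|C(x) ∩ C(z)| = 312`: `C(x)` has a normal Sylow 13-subgroup and order
`13³ * 24`.
-/

set_option autoImplicit false
set_option linter.unusedSectionVars false

namespace Cfsg.Agent.H657.M13

open Subgroup Cfsg Cfsg.Agent.H609.Inv.Thirteen Cfsg.Agent.H794.MonCore
open Cfsg.Agent.H131.T5M13 (D TB zp exists_syl exists_conj_le exists_nat_pow mem_normalizer_of)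
open Cfsg.Agent.H131.T5Cube (Cu)

universe u

variable {G : Type u} [Group G] [Finite G] {x z t : G} {Q R W : Subgroup G}

/-- `R` has exponent 13 -/
theorem exp13 (h : D x z t Q) (hr : RW x Q R W) (hcu : Cu 13 R x) {r : G} (hrR : r ∈ R) : r ^ 13 = 1 := by
  have hp : Fact (Nat.Prime 13) := ⟨by norm_num⟩
  have hx13 : x ^ 13 = 1 := by rw [← h.hyp.hx, pow_orderOf_eq_one]
  have hcen : ∀ s ∈ R, s * r ^ 13 = r ^ 13 * s := by
    intro s hs
    obtain ⟨i, hi⟩ := mem_zpowers_iff.1 (Cu.comm' hcu s hs r hrR)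
    have h1 : s * r * s⁻¹ = x ^ i * r := by rw [hi]; group
    have h2 : Commute (x ^ i) r := ((show Commute r x from hr.cen r hrR).zpow_right i).symm
    have h3 : s * r ^ 13 * s⁻¹ = r ^ 13 := by
      rw [← conj_pow, h1, h2.mul_pow, ← zpow_natCast, ← zpow_mul, mul_comm, zpow_mul, zpow_natCast, hx13, one_zpow,
        one_mul]
    exact mul_inv_eq_iff_eq_mul.1 h3
  obtain ⟨i, hi⟩ := mem_zpowers_iff.1 (hcu.mem_of_central (pow_mem hrR 13) hcen)
  obtain ⟨j, hj⟩ := hr.inv_z h hcu hrR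
  have h4 : z * r ^ 13 * z⁻¹ = r ^ 13 := by
    rw [← hi, ((show Commute z x from h.hyp.zx).zpow_right i).eq, mul_inv_cancel_right]
  have h5 : z * r ^ 13 * z⁻¹ = (r ^ 13)⁻¹ := by
    have h2 : Commute r⁻¹ (x ^ j) := ((show Commute r x from hr.cen r hrR).zpow_right j).inv_left
    rw [← conj_pow, hj, h2.mul_pow, ← zpow_natCast (x ^ j), ← zpow_mul, mul_comm j, zpow_mul, zpow_natCast, hx13,
      one_zpow, mul_one, inv_pow]
  have h6 : r ^ 13 * r ^ 13 = 1 := by
    have h7 : r ^ 13 = (r ^ 13)⁻¹ := by rw [← h5, h4]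
    nth_rewrite 1 [h7]
    rw [inv_mul_cancel]
  have h8 : (r ^ 13) ^ 13 = 1 := by
    rw [← hi, ← zpow_natCast, ← zpow_mul, mul_comm, zpow_mul, zpow_natCast, hx13, one_zpow]
  have key : ∀ w : G, w = w ^ 13 * ((w * w) ^ 6)⁻¹ := fun w => by
    rw [← pow_two, ← pow_mul]
    group
  rw [key (r ^ 13), h8, h6, one_pow, inv_one, mul_one]

/-- an involution with fixed points `⟨x⟩` -/
theorem comm_of_inv {N : Subgroup G} (hN : Cfg x z N) (hz : z * z = 1) (hxo : orderOf x = 13)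
    (hzx : z * x = x * z) (hf : ∀ n ∈ N, n * z = z * n → n ∈ zpowers x) :
    ∀ n ∈ N, ∀ m ∈ N, n * m * n⁻¹ * m⁻¹ ∈ zpowers x := by
  have hnz : ∀ n ∈ N, z * n * z⁻¹ ∈ N := hN.nor z hzx
  let xN : ↥N := ⟨x, hN.mem⟩
  have hcen : ∀ n : ↥N, n * xN = xN * n := fun n => Subtype.ext (hN.cx n n.2)
  have hnor : (zpowers xN).Normal := by
    constructor
    intro a ha g
    obtain ⟨i, rfl⟩ := mem_zpowers_iff.1 ha
    have h1 : g * xN ^ i * g⁻¹ = xN ^ i := by
      rw [((show Commute g xN from hcen g).zpow_right i).eq, mul_inv_cancel_right]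
    rw [h1]
    exact ha
  let φ₀ : ↥N →* ↥N :=
    { toFun := fun n => ⟨z * n * z⁻¹, hnz n n.2⟩
      map_one' := Subtype.ext (by simp)
      map_mul' := fun a b => Subtype.ext (by
        show z * ((a : G) * b) * z⁻¹ = z * a * z⁻¹ * (z * b * z⁻¹)
        group) }
  have hφx : φ₀ xN = xN := Subtype.ext (by
    show z * x * z⁻¹ = x
    rw [hzx, mul_inv_cancel_right])
  have hle : zpowers xN ≤ (zpowers xN).comap φ₀ := by
    rw [zpowers_le, mem_comap, hφx]
    exact mem_zpowers _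
  let φ : ↥N ⧸ zpowers xN →* ↥N ⧸ zpowers xN := QuotientGroup.map _ _ φ₀ hle
  have hφφ : ∀ n, φ₀ (φ₀ n) = n := fun n => Subtype.ext (by
    show z * (z * n * z⁻¹) * z⁻¹ = n
    calc z * (z * (n : G) * z⁻¹) * z⁻¹ = (z * z) * n * (z * z)⁻¹ := by group
      _ = n := by rw [hz]; group)
  have hfpf : MonoidHom.FixedPointFree φ := by
    intro g hg
    induction g using QuotientGroup.induction_on with
    | _ n =>
      have h1 : φ (n : ↥N ⧸ zpowers xN) = ((φ₀ n : ↥N) : ↥N ⧸ zpowers xN) := rfl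
      rw [h1] at hg
      have h2 := QuotientGroup.eq.1 hg.symm
      obtain ⟨i, hi⟩ := mem_zpowers_iff.1 h2
      have h3 : φ₀ n = n * xN ^ i := by rw [hi]; group
      have h4 : n = n * xN ^ i * xN ^ i := by
        nth_rewrite 1 [← hφφ n]
        rw [h3, map_mul, map_zpow, hφx, h3]
      have h5 : xN ^ (2 * i) = 1 := by
        have h6 : n * 1 = n * (xN ^ i * xN ^ i) := by rw [mul_one, ← mul_assoc, ← h4]
        rw [two_mul, zpow_add, ← mul_left_cancel h6]
      have h7 : xN ^ i = 1 := by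
        have ho : orderOf xN = 13 := by rw [Subgroup.orderOf_mk, hxo]
        rw [← orderOf_dvd_iff_zpow_eq_one, ho] at h5 ⊢
        push_cast at h5 ⊢
        omega
      rw [h7, mul_one] at h3
      have h8 : z * (n : G) * z⁻¹ = n := congrArg Subtype.val h3
      obtain ⟨j, hj⟩ := mem_zpowers_iff.1 (hf n n.2 (mul_inv_eq_iff_eq_mul.1 h8).symm)
      rw [QuotientGroup.eq_one_iff]
      exact mem_zpowers_iff.2 ⟨j, Subtype.ext hj⟩
  have hinv : Function.Involutive φ := by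
    intro g
    induction g using QuotientGroup.induction_on with
    | _ n =>
      show ((φ₀ (φ₀ n) : ↥N) : ↥N ⧸ zpowers xN) = n
      rw [hφφ]
  have hcomm := hfpf.commute_all_of_involutive hinv
  intro n hn m hm
  have h1 : ((⟨n, hn⟩ * ⟨m, hm⟩ : ↥N) : ↥N ⧸ zpowers xN) = ((⟨m, hm⟩ * ⟨n, hn⟩ : ↥N) : ↥N ⧸ zpowers xN) :=
    hcomm (⟨n, hn⟩ : ↥N) (⟨m, hm⟩ : ↥N)
  have h2 := QuotientGroup.eq.1 h1
  obtain ⟨i, hi⟩ := mem_zpowers_iff.1 h2
  have h3 : x ^ i = (n * m)⁻¹ * (m * n) := congrArg Subtype.val hi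
  refine mem_zpowers_iff.2 ⟨-i, ?_⟩
  have h4 : m * n = n * m * x ^ i := by rw [h3]; group
  have h5 : Commute (n * m) (x ^ i) := (show Commute (n * m) x from hN.cx _ (mul_mem hn hm)).zpow_right i
  rw [zpow_neg]
  calc (x ^ i)⁻¹ = (n * m) * (x ^ i * (n * m))⁻¹ := by group
    _ = (n * m) * (n * m * x ^ i)⁻¹ := by rw [h5.eq]
    _ = (n * m) * (m * n)⁻¹ := by rw [h4]
    _ = _ := by group

theorem comm_of_coprime {n m c : G} (h : n * m * n⁻¹ * m⁻¹ = c) (hcn : c * n = n * c) (hc : c ^ 13 = 1)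
    (hn : ¬ 13 ∣ orderOf n) : n * m = m * n := by
  have h1 : ∀ k : ℕ, n ^ k * m * (n ^ k)⁻¹ = c ^ k * m := by
    intro k
    induction k with
    | zero => simp
    | succ k ih =>
      have h2 : Commute n (c ^ k) := (show Commute c n from hcn).symm.pow_right k
      calc n ^ (k + 1) * m * (n ^ (k + 1))⁻¹ = n * (n ^ k * m * (n ^ k)⁻¹) * n⁻¹ := by rw [pow_succ']; group
        _ = n * (c ^ k * m) * n⁻¹ := by rw [ih]
        _ = (n * c ^ k) * m * n⁻¹ := by group
        _ = (c ^ k * n) * m * n⁻¹ := by rw [h2.eq]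
        _ = c ^ k * (n * m * n⁻¹ * m⁻¹) * m := by group
        _ = c ^ (k + 1) * m := by rw [h, pow_succ]
  have h2 := h1 (orderOf n)
  rw [pow_orderOf_eq_one] at h2
  have h3 : c ^ orderOf n = 1 := by
    have h4 : 1 * m = c ^ orderOf n * m := by
      rw [← h2]; group
    exact (mul_right_cancel h4).symm
  have h4 : c = 1 := by
    have h5 := orderOf_dvd_of_pow_eq_one h3
    have h6 := orderOf_dvd_of_pow_eq_one hc
    rcases (Nat.dvd_prime (by norm_num)).1 h6 with h7 | h7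
    · exact orderOf_eq_one_iff.1 h7
    · rw [h7] at h5
      exact absurd h5 hn
  rw [h4] at h
  have h5 : n * m * n⁻¹ = m := by
    rw [mul_inv_eq_one] at h
    exact h
  exact mul_inv_eq_iff_eq_mul.1 h5

theorem card_le_ncard {C : Subgroup G} {S : Subgroup ↥C} {A : Set G} (hA : ∀ s : ↥S, ((s : ↥C) : G) ∈ A) :
    Nat.card ↥S ≤ A.ncard := by
  let f : ↥S → G := fun s => ((s : ↥C) : G)
  have hf : Function.Injective f := fun a b hab => Subtype.ext (Subtype.ext hab)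
  have h1 : Nat.card ↥S = (Set.range f).ncard := by
    rw [← Nat.card_coe_set_eq]
    exact Nat.card_congr (Equiv.ofInjective f hf)
  rw [h1]
  refine Set.ncard_le_ncard ?_ A.toFinite
  rintro _ ⟨s, rfl⟩
  exact hA s

/-- an element of order 4 commuting with an element of order 3 -/
theorem exists_four {C : Subgroup G} (hC : Nat.card C = 312) (hz : orderOf z = 2) (hx : orderOf x = 13)
    (only : ∀ u ∈ C, u * u = 1 → u = 1 ∨ u = z) {M : Subgroup G} (hM : Nat.card M = 39)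
    (hxM : x ∈ M) (hMC : M ≤ C) (hnor : ∀ c ∈ C, ∀ m ∈ M, c * m * c⁻¹ ∈ M) (hcx : ∀ c ∈ C, c * x = x * c) :
    ∃ y q : G, y ∈ C ∧ q ∈ C ∧ orderOf y = 3 ∧ orderOf q = 4 ∧ y * q = q * y := by
  have h3 : Fact (Nat.Prime 3) := ⟨by norm_num⟩
  have h2 : Fact (Nat.Prime 2) := ⟨Nat.prime_two⟩
  obtain ⟨y, hy⟩ := exists_prime_orderOf_dvd_card' (G := ↥M) 3 (by rw [hM]; norm_num)
  have hyo : orderOf (y : G) = 3 := by rw [Subgroup.orderOf_coe, hy]
  have hyx : (y : G) * x = x * y := hcx y (hMC y.2)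
  have hxy : orderOf (x * (y : G)) = 39 := by
    rw [(show Commute x (y : G) from hyx.symm).orderOf_mul_eq_mul_orderOf_of_coprime (by rw [hx, hyo]; norm_num), hx, hyo]
  have hMz : M = zpowers (x * (y : G)) :=
    (Subgroup.eq_of_le_of_card_ge (zpowers_le.2 (mul_mem hxM y.2)) (by rw [hM, Nat.card_zpowers, hxy])).symm
  have hy3 : (y : G) ^ 3 = 1 := by rw [← hyo, pow_orderOf_eq_one]
  have hx13 : x ^ 13 = 1 := by rw [← hx, pow_orderOf_eq_one]
  have hy1 : (y : G) ≠ 1 := by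
    intro h
    rw [h, orderOf_one] at hyo
    norm_num at hyo
  -- the conjugates of `y`
  have hcj : ∀ c ∈ C, c * (y : G) * c⁻¹ = y ∨ c * (y : G) * c⁻¹ = (y : G)⁻¹ := by
    intro c hc
    have h4 := hnor c hc y y.2
    have h4' : c * (y : G) * c⁻¹ ∈ zpowers (x * (y : G)) := hMz ▸ h4
    obtain ⟨n, hn⟩ := mem_zpowers_iff.1 h4'
    have h5 : (x * (y : G)) ^ (n * 3) = 1 := by
      have h6 : (c * (y : G) * c⁻¹) ^ 3 = 1 := by rw [conj_pow, hy3]; group
      rw [zpow_mul, hn]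
      exact_mod_cast h6
    have h6 : (13 : ℤ) ∣ n := by
      rw [← orderOf_dvd_iff_zpow_eq_one, hxy] at h5
      push_cast at h5
      omega
    obtain ⟨k, rfl⟩ := h6
    have h7 : c * (y : G) * c⁻¹ = (y : G) ^ k := by
      rw [← hn, (show Commute x (y : G) from hyx.symm).mul_zpow, zpow_mul, zpow_mul]
      have e1 : x ^ (13 : ℤ) = 1 := by exact_mod_cast hx13
      have e2 : (y : G) ^ (13 : ℤ) = y := by
        have : (y : G) ^ 13 = ((y : G) ^ 3) ^ 4 * y := by rw [← pow_mul, ← pow_succ]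
        rw [hy3, one_pow, one_mul] at this
        exact_mod_cast this
      rw [e1, e2, one_zpow, one_mul]
    have h8 : (3 : ℤ) ∣ k - 1 ∨ (3 : ℤ) ∣ k + 1 ∨ (3 : ℤ) ∣ k := by omega
    have e3 : ∀ l : ℤ, (3 : ℤ) ∣ l → (y : G) ^ l = 1 := by
      intro l hl
      rw [← orderOf_dvd_iff_zpow_eq_one, hyo]
      exact_mod_cast hl
    rcases h8 with h8 | h8 | h8
    · left
      have := e3 _ h8
      rw [zpow_sub, zpow_one, mul_inv_eq_one] at this
      rw [h7, this]
    · right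
      have := e3 _ h8
      rw [zpow_add, zpow_one] at this
      rw [h7]
      exact eq_inv_of_mul_eq_one_left this
    · exfalso
      rw [e3 _ h8] at h7
      apply hy1
      calc (y : G) = c⁻¹ * (c * (y : G) * c⁻¹) * c := by group
        _ = 1 := by rw [h7]; group
  -- a Sylow 2-subgroup
  obtain ⟨S, hS⟩ := Sylow.exists_subgroup_card_pow_prime (G := ↥C) 2 (n := 3) (by rw [hC]; norm_num)
  have hzz : z * z = 1 := by rw [← pow_two, ← hz, pow_orderOf_eq_one]
  have key : ∃ s : ↥S, ((s : ↥C) : G) ≠ 1 ∧ ((s : ↥C) : G) ≠ z ∧ ((s : ↥C) : G) * y = y * s := by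
    by_contra hcon
    push Not at hcon
    have hinv : ∀ s : ↥S, ((s : ↥C) : G) ≠ 1 → ((s : ↥C) : G) ≠ z → ((s : ↥C) : G) * y * ((s : ↥C) : G)⁻¹ = (y : G)⁻¹ := by
      intro s h4 h5
      rcases hcj s s.1.2 with h6 | h6
      · exact absurd (mul_inv_eq_iff_eq_mul.1 h6) (hcon s h4 h5)
      · exact h6
    have hex : ∃ s1 : ↥S, ((s1 : ↥C) : G) ≠ 1 ∧ ((s1 : ↥C) : G) ≠ z := by
      by_contra hc
      push Not at hc
      have h4 : Nat.card ↥S ≤ ({1, z} : Set G).ncard := card_le_ncard fun s => by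
        by_cases h5 : ((s : ↥C) : G) = 1
        · exact Or.inl h5
        · exact Or.inr (hc s h5)
      have h5 : ({1, z} : Set G).ncard ≤ 2 :=
        Set.ncard_insert_le _ _ |>.trans (by rw [Set.ncard_singleton])
      rw [hS] at h4
      norm_num at h4
      omega
    obtain ⟨s1, h11, h12⟩ := hex
    have hall : ∀ s : ↥S, ((s : ↥C) : G) ∈ ({1, z, ((s1 : ↥C) : G)⁻¹, ((s1 : ↥C) : G)⁻¹ * z} : Set G) := by
      intro s
      by_cases h4 : ((s : ↥C) : G) = 1
      · exact Or.inl h4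
      by_cases h5 : ((s : ↥C) : G) = z
      · exact Or.inr (Or.inl h5)
      have h6 := hinv s h4 h5
      have h7 := hinv s1 h11 h12
      have h8 : (((s1 * s : ↥S) : ↥C) : G) * y = y * (((s1 * s : ↥S) : ↥C) : G) := by
        have h9 : ((s1 : ↥C) : G) * ((s : ↥C) : G) * y * (((s1 : ↥C) : G) * ((s : ↥C) : G))⁻¹ = y := by
          calc ((s1 : ↥C) : G) * ((s : ↥C) : G) * y * (((s1 : ↥C) : G) * ((s : ↥C) : G))⁻¹ =
              ((s1 : ↥C) : G) * (((s : ↥C) : G) * y * ((s : ↥C) : G)⁻¹) * ((s1 : ↥C) : G)⁻¹ := by group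
            _ = (((s1 : ↥C) : G) * y * ((s1 : ↥C) : G)⁻¹)⁻¹ := by rw [h6]; group
            _ = y := by rw [h7, inv_inv]
        exact mul_inv_eq_iff_eq_mul.1 h9
      by_cases h9 : (((s1 * s : ↥S) : ↥C) : G) = 1
      · right; right; left
        have : ((s1 : ↥C) : G) * ((s : ↥C) : G) = 1 := h9
        exact eq_inv_of_mul_eq_one_right this
      · right; right; right
        have h10 : (((s1 * s : ↥S) : ↥C) : G) = z := by
          by_contra h10
          exact hcon (s1 * s) h9 h10 h8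
        have : ((s1 : ↥C) : G) * ((s : ↥C) : G) = z := h10
        show ((s : ↥C) : G) = ((s1 : ↥C) : G)⁻¹ * z
        rw [← this]; group
    have h4 : Nat.card ↥S ≤ ({1, z, ((s1 : ↥C) : G)⁻¹, ((s1 : ↥C) : G)⁻¹ * z} : Set G).ncard := card_le_ncard hall
    have h5 : ({1, z, ((s1 : ↥C) : G)⁻¹, ((s1 : ↥C) : G)⁻¹ * z} : Set G).ncard ≤ 4 := by
      refine (Set.ncard_insert_le _ _).trans ?_
      have h6 := Set.ncard_insert_le z ({((s1 : ↥C) : G)⁻¹, ((s1 : ↥C) : G)⁻¹ * z} : Set G)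
      have h7 := Set.ncard_insert_le ((s1 : ↥C) : G)⁻¹ ({((s1 : ↥C) : G)⁻¹ * z} : Set G)
      rw [Set.ncard_singleton] at h7
      omega
    rw [hS] at h4
    norm_num at h4
    omega
  obtain ⟨s, hs1, hsz, hsy⟩ := key
  -- its order
  have hso : orderOf ((s : ↥C) : G) ∣ 2 ^ 3 := by
    rw [Subgroup.orderOf_coe, Subgroup.orderOf_coe, ← hS]
    exact orderOf_dvd_natCard s
  obtain ⟨k, hk3, hk⟩ := (Nat.dvd_prime_pow Nat.prime_two).1 hso
  have hss : ((s : ↥C) : G) * ((s : ↥C) : G) ≠ 1 := by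
    intro h
    rcases only _ s.1.2 h with h4 | h4
    · exact hs1 h4
    · exact hsz h4
  have hk2 : 2 ≤ k := by
    by_contra h
    have h4 : k = 0 ∨ k = 1 := by omega
    rcases h4 with rfl | rfl
    · rw [pow_zero, orderOf_eq_one_iff] at hk
      exact hs1 hk
    · apply hss
      rw [← pow_two, ← pow_one 2, ← hk, pow_orderOf_eq_one]
  have hk' : k = 2 ∨ k = 3 := by omega
  rcases hk' with rfl | rfl
  · exact ⟨y, s, hMC y.2, s.1.2, hyo, by rw [hk]; norm_num, hsy.symm⟩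
  · refine ⟨y, ((s : ↥C) : G) ^ 2, hMC y.2, pow_mem s.1.2 2, hyo, ?_, ((show Commute ((s : ↥C) : G) y from hsy).pow_left 2).symm.eq⟩
    rw [orderOf_pow, hk]
    norm_num

/-- **The centralizer of `x`.** -/
theorem card_cx (h : D x z t Q) (hr : RW x Q R W)
    (hC : Nat.card ↥(centralizer ({x} : Set G) ⊓ centralizer ({z} : Set G)) = 312)
    (hno : ∀ y q : G, orderOf y = 3 → orderOf q = 4 → y * x = x * y → q * x = x * q → y * z = z * y → q * z = z * q →
      y * q = q * y → False)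
    (hbad : ∀ a : G, orderOf a = 13 → ¬ TB z a → a * x = x * a → ∀ n : G, n * a = a * n → n * x = x * n →
      ¬ 13 ∣ orderOf n → n = 1)
    (hexp : ∀ r ∈ R, r ^ 13 = 1) :
    Nat.card ↥(centralizer ({x} : Set G)) = 52728 ∧ ∀ c ∈ centralizer ({x} : Set G), ∀ r ∈ R, c * r * c⁻¹ ∈ R := by
  have hp : Fact (Nat.Prime 13) := ⟨by norm_num⟩
  have hx13 : x ^ 13 = 1 := by rw [← h.hyp.hx, pow_orderOf_eq_one]
  obtain ⟨N, hN⟩ := exists_cfg h.hyp.hz (by rw [h.hyp.hx]; decide) h.hyp.zx h.hyp.only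
  have hcc := hN.card_cent
  rw [hC] at hcc
  set C := centralizer ({x} : Set G) ⊓ centralizer ({z} : Set G) with hCdef
  have hCx : ∀ c ∈ C, c * x = x * c := fun c hc => mem_centralizer_singleton_iff.1 (mem_inf.1 hc).1
  have hCz : ∀ c ∈ C, c * z = z * c := fun c hc => mem_centralizer_singleton_iff.1 (mem_inf.1 hc).2
  have hxC : x ∈ C := mem_inf.2 ⟨mem_centralizer_singleton_iff.2 rfl, mem_centralizer_singleton_iff.2 h.hyp.zx.symm⟩
  have hxM : x ∈ N ⊓ C := mem_inf.2 ⟨hN.mem, hxC⟩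
  -- the order of `N ∩ C`
  have hM : Nat.card ↥(N ⊓ C) = 13 := by
    have h1 : Nat.card ↥(N ⊓ C) ∣ 312 := hC ▸ card_dvd_of_le inf_le_right
    have h2 : ¬ 2 ∣ Nat.card ↥(N ⊓ C) := by
      intro h2
      have h3 : Nat.card ↥(N ⊓ C) ∣ Nat.card ↥N := card_dvd_of_le inf_le_left
      exact (Nat.not_even_iff_odd.2 hN.odd) ((even_iff_two_dvd).2 (h2.trans h3))
    have h3 : 13 ∣ Nat.card ↥(N ⊓ C) := by
      have := card_dvd_of_le (zpowers_le.2 hxM)
      rwa [Nat.card_zpowers, h.hyp.hx] at this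
    have h4 : Nat.card ↥(N ⊓ C) = 13 ∨ Nat.card ↥(N ⊓ C) = 39 := by
      obtain ⟨k, hk⟩ := h3
      rw [hk] at h1 h2 ⊢
      have h5 : k ∣ 24 := Nat.dvd_of_mul_dvd_mul_left (by norm_num : 0 < 13) (by simpa using h1)
      have h6 : k ≤ 24 := Nat.le_of_dvd (by norm_num) h5
      interval_cases k <;> revert h5 h2 <;> decide
    rcases h4 with h4 | h4
    · exact h4
    · exfalso
      obtain ⟨y, q, hyC, hqC, hyo, hqo, hyq⟩ := exists_four hC h.hyp.hz h.hyp.hx
        (fun u hu huu => h.hyp.only u (hCx u hu) (hCz u hu) huu) h4 hxM inf_le_right (fun c hc m hm =>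
          mem_inf.2 ⟨hN.nor c (hCx c hc) m (mem_inf.1 hm).1, mul_mem (mul_mem hc (mem_inf.1 hm).2) (inv_mem hc)⟩) hCx
      exact hno y q hyo hqo (hCx y hyC) (hCx q hqC) (hCz y hyC) (hCz q hqC) hyq
  have hMx : N ⊓ C = zpowers x :=
    (Subgroup.eq_of_le_of_card_ge (zpowers_le.2 hxM) (by rw [hM, Nat.card_zpowers, h.hyp.hx])).symm
  rw [hM] at hcc
  have hcc' : Nat.card ↥(centralizer ({x} : Set G)) = Nat.card ↥N * 24 := by omega
  -- commutators
  have hcomm := comm_of_inv hN (zz h) h.hyp.hx h.hyp.zx (fun n hn hnz => by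
    rw [← hMx]
    exact mem_inf.2 ⟨hn, mem_inf.2 ⟨mem_centralizer_singleton_iff.2 (hN.cx n hn), mem_centralizer_singleton_iff.2 hnz⟩⟩)
  have hNC : N ≤ centralizer ({x} : Set G) := fun n hn => mem_centralizer_singleton_iff.2 (hN.cx n hn)
  -- `R ≤ N`
  have hRN : R ≤ N := by
    intro r hrR
    have hrC : r ∈ centralizer ({x} : Set G) := mem_centralizer_singleton_iff.2 (hr.cen r hrR)
    have hnor : (N.subgroupOf (centralizer ({x} : Set G))).Normal := by
      constructor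
      intro n hn g
      exact hN.nor g (mem_centralizer_singleton_iff.1 g.2) n hn
    have hidx : (N.subgroupOf (centralizer ({x} : Set G))).index = 24 := by
      have h1 := (N.subgroupOf (centralizer ({x} : Set G))).card_mul_index
      rw [Nat.card_congr (Subgroup.subgroupOfEquivOfLe hNC).toEquiv, hcc'] at h1
      exact Nat.eq_of_mul_eq_mul_left Nat.card_pos h1
    have h1 := (N.subgroupOf (centralizer ({x} : Set G))).pow_index_mem ⟨r, hrC⟩
    rw [hidx] at h1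
    have h2 : r ^ 24 ∈ N := h1
    have h3 : r = (r ^ 24) ^ 6 := by
      calc r = r * (r ^ 13) ^ 11 := by rw [hexp r hrR, one_pow, mul_one]
        _ = (r ^ 24) ^ 6 := by rw [← pow_mul, ← pow_mul, ← pow_succ']
    rw [h3]
    exact pow_mem h2 6
  -- a bad element
  obtain ⟨a, hao, haR, habad⟩ : ∃ a : G, orderOf a = 13 ∧ a ∈ R ∧ ¬ TB z a := by
    obtain ⟨a, hao, -, hbad⟩ := h.exists_bad
    obtain ⟨g, hg⟩ := exists_conj_le hr.card h.hyp.h4 (zp hao)
    refine ⟨g * a * g⁻¹, by rw [Cfsg.Agent.H131.T5M13.orderOf_conj', hao], hg a (mem_zpowers a), ?_⟩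
    intro h1
    apply hbad
    have h2 := h1.conj g⁻¹
    have h3 : g⁻¹ * (g * a * g⁻¹) * g⁻¹⁻¹ = a := by group
    rwa [h3] at h2
  -- `N` is a 13-group
  have h13 : ∀ n ∈ N, ¬ 13 ∣ orderOf n → n = 1 := by
    intro n hn hno
    have h1 : ∀ m ∈ N, n * m = m * n := by
      intro m hm
      obtain ⟨i, hi⟩ := mem_zpowers_iff.1 (hcomm n hn m hm)
      refine comm_of_coprime hi.symm ?_ ?_ hno
      · exact ((show Commute n x from hN.cx n hn).zpow_right i).symm.eq
      · rw [← zpow_natCast, ← zpow_mul, mul_comm, zpow_mul, zpow_natCast, hx13, one_zpow]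
    exact hbad a hao habad (hr.cen a haR) n (h1 a (hRN haR)) (hN.cx n hn) hno
  have hN3 : Nat.card ↥N = 13 ^ 3 := by
    have h1 : 13 ^ 3 ∣ Nat.card ↥N := hr.card ▸ card_dvd_of_le hRN
    obtain ⟨m, hm⟩ := h1
    have h2 : ¬ 13 ∣ m := by
      rintro ⟨l, rfl⟩
      apply h.hyp.h4
      refine Dvd.dvd.trans ?_ (Subgroup.card_subgroup_dvd_card N)
      rw [hm]
      exact ⟨l, by ring⟩
    by_cases hm1 : m = 1
    · rw [hm, hm1, mul_one]
    · exfalso
      obtain ⟨q, hq, hqm⟩ := Nat.exists_prime_and_dvd hm1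
      have : Fact q.Prime := ⟨hq⟩
      obtain ⟨n, hn⟩ := exists_prime_orderOf_dvd_card' (G := ↥N) q (by rw [hm]; exact hqm.mul_left _)
      have hno : orderOf (n : G) = q := by rw [Subgroup.orderOf_coe, hn]
      have h3 := h13 n n.2 (by
        rw [hno]
        intro h4
        rw [(Nat.prime_dvd_prime_iff_eq (by norm_num) hq).1 h4] at h2
        exact h2 hqm)
      rw [h3, orderOf_one] at hno
      exact hq.one_lt.ne hno
  have hRN' : R = N := Subgroup.eq_of_le_of_card_ge hRN (by rw [hN3, hr.card])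
  refine ⟨by rw [hcc', hN3]; norm_num, ?_⟩
  intro c hc r hrR
  rw [hRN'] at hrR ⊢
  exact hN.nor c (mem_centralizer_singleton_iff.1 hc) r hrR

end Cfsg.Agent.H657.M13
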