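import Cfsg.Agent.H657.M13.Cover
import Cfsg.Agent.S3719
import Cfsg.Agent.S0280
import Cfsg.Agent.SmallSimple.S1000.PSLFacts

/-!
# `C / ⟨x⟩ = L₃(3)`, `C = ⟨x⟩ × L` (helper657)
-/

set_option autoImplicit false
set_option linter.unusedSectionVars false

namespace Cfsg.Agent.H657.M13

open Subgroup Cfsg
open Matrix (ProjectiveSpecialLinearGroup)
open Cfsg.Agent.Characters.GL23 Cfsg.Agent.Characters.GL23Table

universe u

open scoped commutatorElement

/-- `PSL₃(3) = SL₃(3)` -/
noncomputable def pslEquiv {F : Type*} [Field F] [Fintype F] (hF : Fintype.card F = 3) :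
    ProjectiveSpecialLinearGroup (Fin 3) F ≃* Matrix.SpecialLinearGroup (Fin 3) (ZMod 3) :=
  ((LieClassical.FieldTransfer.pslCongr (ZMod.ringEquivOfPrime F (by norm_num) hF) :
    ProjectiveSpecialLinearGroup (Fin 3) (ZMod 3) ≃* ProjectiveSpecialLinearGroup (Fin 3) F).symm).trans
    ((QuotientGroup.quotientMulEquivOfEq (by
      rw [eq_bot_iff]
      intro x hx
      exact SmallSimple.PSLFacts.center_three hx)).trans QuotientGroup.quotientBot)

theorem card_psu42 {F : Type*} [Field F] [Fintype F] (hF : Fintype.card F = 2 ^ 2) : Nat.card (PSU 4 F 2) = 25920 := by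
  have h := S0280.result hF 4 (by norm_num)
  rw [show Nat.gcd 4 (2 + 1) = 1 by norm_num, Finset.prod_range_succ, Finset.prod_range_succ, Finset.prod_range_succ,
    Finset.prod_range_succ, Finset.prod_range_zero, if_pos (by decide), if_neg (by decide), if_pos (by decide),
    if_neg (by decide)] at h
  norm_num at h
  omega

/-- a simple group of order 5616 -/
theorem iso_of_card {S : Type u} [Group S] [Finite S] [IsSimpleGroup S] (h : Nat.card S = 5616) :
    Nonempty (S ≃* Matrix.SpecialLinearGroup (Fin 3) (ZMod 3)) := by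
  have hna : ¬ IsMulCommutative S := by
    intro hc
    let _ : CommGroup S := { (inferInstance : Group S) with mul_comm := fun a b => hc.is_comm.comm a b }
    have h2 : (Nat.card S).Prime := IsSimpleGroup.prime_card
    rw [h] at h2
    norm_num at h2
  have hpf : (Nat.card S).primeFactors.card = 3 := by
    rw [h, show (5616 : ℕ) = 2 ^ 4 * (3 ^ 3 * 13) by norm_num, Nat.primeFactors_mul (by norm_num) (by norm_num),
      Nat.primeFactors_mul (by norm_num) (by norm_num), Nat.primeFactors_prime_pow (by norm_num) Nat.prime_two,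
      Nat.primeFactors_prime_pow (by norm_num) Nat.prime_three, Nat.Prime.primeFactors (by norm_num : Nat.Prime 13)]
    decide
  rcases S3719.result hna hpf with ⟨⟨e⟩⟩ | ⟨⟨e⟩⟩ | ⟨F, _, _, hF, ⟨e⟩⟩ | ⟨F, _, _, hF, ⟨e⟩⟩ | ⟨F, _, _, hF, ⟨e⟩⟩ |
      ⟨F, _, _, hF, ⟨e⟩⟩
  · exfalso
    have h1 := Nat.card_congr e.toEquiv
    rw [h, Nat.card_eq_fintype_card, card_alternatingGroup, Fintype.card_fin] at h1
    revert h1
    decide
  · exfalso
    have h1 := Nat.card_congr e.toEquiv
    rw [h, Nat.card_eq_fintype_card, card_alternatingGroup, Fintype.card_fin] at h1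
    revert h1
    decide
  · exfalso
    have h1 := Nat.card_congr e.toEquiv
    rcases hF with hF | hF | hF
    · rw [h, SmallSimple.PSLFacts.card_psl_two_seven hF] at h1
      norm_num at h1
    · rw [h, SmallSimple.PSLFacts.card_psl_two_eight hF] at h1
      norm_num at h1
    · rw [h, SmallSimple.PSLFacts.card_psl_two_seventeen hF] at h1
      norm_num at h1
  · exact ⟨e.trans (pslEquiv hF)⟩
  · exfalso
    have h1 := Nat.card_congr e.toEquiv
    rw [h, SmallSimple.PSLFacts.card_psu_three_three hF] at h1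
    norm_num at h1
  · exfalso
    have h1 := Nat.card_congr e.toEquiv
    rw [h, card_psu42 (by rw [hF]; norm_num)] at h1
    norm_num at h1

section

variable {C : Type u} [Group C] [Finite C] {x : C}

theorem comm_of_commutator {Q : Type*} [Group Q] (h : commutator Q = ⊥) (a b : Q) : a * b = b * a := by
  have h4 : ⁅a, b⁆ ∈ commutator Q := Subgroup.commutator_mem_commutator (mem_top a) (mem_top b)
  rw [h, mem_bot, commutatorElement_eq_one_iff_mul_comm] at h4
  exact h4

theorem normal_zpowers (hxc : ∀ g : C, g * x = x * g) : (zpowers x).Normal := by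
  constructor
  intro n hn g
  obtain ⟨k, rfl⟩ := mem_zpowers_iff.1 hn
  have h1 : Commute g (x ^ k) := (show Commute g x from hxc g).zpow_right k
  have h2 : g * x ^ k * g⁻¹ = x ^ k := by
    rw [mul_inv_eq_iff_eq_mul]
    exact h1.eq
  rw [h2]
  exact hn

theorem zpowers_pow (hx : orderOf x = 13) {n : C} (hn : n ∈ zpowers x) : n ^ 13 = 1 := by
  obtain ⟨k, rfl⟩ := mem_zpowers_iff.1 hn
  have hx13 : x ^ 13 = 1 := by rw [← hx, pow_orderOf_eq_one]
  rw [← zpow_natCast, ← zpow_mul, mul_comm, zpow_mul, zpow_natCast, hx13, one_zpow]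

theorem eq_one_of_sq (hx : orderOf x = 13) {n : C} (hn : n ∈ zpowers x) (h2 : n * n = 1) : n = 1 := by
  have h1 := zpowers_pow hx hn
  calc n = n ^ 13 * ((n * n) ^ 6)⁻¹ := by rw [← pow_two, ← pow_mul]; group
    _ = 1 := by rw [h1, h2, one_pow, inv_one, one_mul]

theorem quot_cent (hx : orderOf x = 13) (hxc : ∀ g : C, g * x = x * g) [hN : (zpowers x).Normal]
    (h : ∀ u : C, orderOf u = 2 → Nat.card (centralizer ({u} : Set C)) = 624 ∧
      ∃ K : Subgroup C, K ≤ centralizer ({u} : Set C) ∧ Nonempty (K ≃* Grp)) :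
    ∀ v : C ⧸ zpowers x, orderOf v = 2 → Nonempty (centralizer ({v} : Set (C ⧸ zpowers x)) ≃* Grp) := by
  intro v hv
  obtain ⟨g, rfl⟩ := QuotientGroup.mk'_surjective (zpowers x) v
  set q := QuotientGroup.mk' (zpowers x) with hq
  have hq1 : ∀ y : C, q y = 1 ↔ y ∈ zpowers x := by
    intro y
    rw [hq, QuotientGroup.mk'_apply, QuotientGroup.eq_one_iff]
  have hgg : g * g ∈ zpowers x := by
    rw [← hq1, map_mul, ← pow_two, ← hv, pow_orderOf_eq_one]
  obtain ⟨w, hw⟩ : ∃ w : C, w = g ^ 13 := ⟨_, rfl⟩
  have hww : w * w = 1 := by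
    rw [hw, ← pow_add, show 13 + 13 = 2 * 13 by norm_num, pow_mul, pow_two]
    exact zpowers_pow hx hgg
  have hqw : q w = q g := by
    rw [hw, map_pow]
    have h1 : q g * q g = 1 := by rw [← pow_two, ← hv, pow_orderOf_eq_one]
    calc q g ^ 13 = (q g * q g) ^ 6 * q g := by rw [← pow_two, ← pow_mul, ← pow_succ]
      _ = q g := by rw [h1, one_pow, one_mul]
  have hw1 : w ≠ 1 := by
    intro h1
    rw [← hqw, h1, map_one, orderOf_one] at hv
    norm_num at hv
  have how : orderOf w = 2 := orderOf_eq_prime (by rw [pow_two]; exact hww) hw1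
  obtain ⟨hc, K, hK, ⟨e⟩⟩ := h w how
  have hmap : (centralizer ({w} : Set C)).map q = centralizer ({q g} : Set (C ⧸ zpowers x)) := by
    ext y
    constructor
    · rintro ⟨c, hcw, rfl⟩
      rw [mem_centralizer_singleton_iff, ← hqw, ← map_mul, ← map_mul]
      exact congrArg q (mem_centralizer_singleton_iff.1 hcw)
    · intro hy
      obtain ⟨c, rfl⟩ := QuotientGroup.mk'_surjective (zpowers x) y
      refine ⟨c, mem_centralizer_singleton_iff.2 ?_, rfl⟩
      have h1 : q (c * w * c⁻¹ * w⁻¹) = 1 := by
        have h2 := mem_centralizer_singleton_iff.1 hy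
        rw [map_mul, map_mul, map_mul, map_inv, map_inv, hqw]
        change q c * q g * (q c)⁻¹ * (q g)⁻¹ = 1
        rw [show q c * q g = q g * q c from h2]
        group
      rw [hq1] at h1
      have h3 : c * w * c⁻¹ * w⁻¹ = 1 := by
        apply eq_one_of_sq hx h1
        set n := c * w * c⁻¹ * w⁻¹ with hn
        have h4 : n * w = c * w * c⁻¹ := by rw [hn]; group
        have h5 : n * w = w * n := by
          obtain ⟨k, hk⟩ := mem_zpowers_iff.1 h1
          rw [← hk]
          exact ((show Commute w x from hxc w).zpow_right k).eq.symm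
        have h6 : (n * w) * (n * w) = 1 := by
          rw [h4]
          calc c * w * c⁻¹ * (c * w * c⁻¹) = c * (w * w) * c⁻¹ := by group
            _ = 1 := by rw [hww]; group
        calc n * n = n * n * (w * w) := by rw [hww, mul_one]
          _ = n * (n * w) * w := by group
          _ = n * (w * n) * w := by rw [h5]
          _ = (n * w) * (n * w) := by group
          _ = 1 := h6
      rw [mul_inv_eq_one, mul_inv_eq_iff_eq_mul] at h3
      exact h3
  -- cardinalities
  have hcardK : Nat.card K = 48 := by rw [Nat.card_congr e.toEquiv, card_grp]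
  have hinj : ∀ y ∈ K, y ∈ zpowers x → y = 1 := by
    intro y hy hyx
    have h1 : y ^ 48 = 1 := by
      have h2 := pow_card_eq_one' (x := (⟨y, hy⟩ : K))
      rw [hcardK] at h2
      exact congrArg Subtype.val h2
    have h2 := zpowers_pow hx hyx
    have h3 : orderOf y ∣ 1 := by
      have : Nat.gcd 48 13 = 1 := by norm_num
      rw [← this]
      exact Nat.dvd_gcd (orderOf_dvd_of_pow_eq_one h1) (orderOf_dvd_of_pow_eq_one h2)
    exact orderOf_eq_one_iff.1 (Nat.dvd_one.1 h3)
  have hfinj : Function.Injective (q.subgroupMap K) := by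
    rw [injective_iff_map_eq_one]
    intro y hy
    have h1 : q (y : C) = 1 := congrArg Subtype.val hy
    exact Subtype.ext (hinj y y.2 ((hq1 _).1 h1))
  have hcq : Nat.card (centralizer ({q g} : Set (C ⧸ zpowers x))) = 48 := by
    rw [← hmap]
    have hx' : x ∈ centralizer ({w} : Set C) := mem_centralizer_singleton_iff.2 (hxc w).symm
    let f := q.subgroupMap (centralizer ({w} : Set C))
    have hfs : Function.Surjective f := q.subgroupMap_surjective _
    have hker : f.ker = (zpowers x).subgroupOf (centralizer ({w} : Set C)) := by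
      ext y
      rw [MonoidHom.mem_ker, mem_subgroupOf, ← hq1]
      constructor
      · intro h; exact congrArg Subtype.val h
      · intro h; exact Subtype.ext h
    have h2 := f.ker.card_mul_index
    rw [Subgroup.index_ker, MonoidHom.range_eq_top.2 hfs, Nat.card_congr (Subgroup.topEquiv).toEquiv, hker,
      Nat.card_congr (Subgroup.subgroupOfEquivOfLe (zpowers_le.2 hx')).toEquiv, Nat.card_zpowers, hx, hc] at h2
    omega
  have hKe : K.map q = centralizer ({q g} : Set (C ⧸ zpowers x)) := by
    refine Subgroup.eq_of_le_of_card_ge ((Subgroup.map_mono hK).trans hmap.le) ?_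
    rw [hcq, ← Nat.card_congr (Equiv.ofBijective _ ⟨hfinj, q.subgroupMap_surjective K⟩), hcardK]
  have e2 : K ≃* K.map q := MulEquiv.ofBijective (q.subgroupMap K) ⟨hfinj, q.subgroupMap_surjective K⟩
  exact ⟨(MulEquiv.subgroupCongr hKe).symm.trans (e2.symm.trans e)⟩

/-- **The structure of `C`.** -/
theorem struct (hx : orderOf x = 13) (hxc : ∀ g : C, g * x = x * g) (h169 : 13 ^ 2 ∣ Nat.card C)
    (hu : ∃ u : C, orderOf u = 2)
    (h : ∀ u : C, orderOf u = 2 → Nat.card (centralizer ({u} : Set C)) = 624 ∧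
      ∃ K : Subgroup C, K ≤ centralizer ({u} : Set C) ∧ Nonempty (K ≃* Grp)) :
    Nat.card C = 73008 ∧ ∃ L : Subgroup C, L.Normal ∧ L ⊓ zpowers x = ⊥ ∧ L ⊔ zpowers x = ⊤ ∧ Nat.card L = 5616 ∧
      Nonempty (L ≃* Matrix.SpecialLinearGroup (Fin 3) (ZMod 3)) := by
  have hN := normal_zpowers hxc
  have h13 : Fact (Nat.Prime 13) := ⟨by norm_num⟩
  set q := QuotientGroup.mk' (zpowers x) with hq
  have hq1 : ∀ y : C, q y = 1 ↔ y ∈ zpowers x := by
    intro y
    rw [hq, QuotientGroup.mk'_apply, QuotientGroup.eq_one_iff]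
  -- the quotient is simple
  obtain ⟨u, hu⟩ := hu
  have hqu : orderOf (q u) = 2 := by
    refine orderOf_eq_prime ?_ ?_
    · rw [← map_pow, ← hu, pow_orderOf_eq_one, map_one]
    · intro h1
      rw [hq1] at h1
      have h2 := zpowers_pow hx h1
      have h3 := orderOf_dvd_of_pow_eq_one h2
      rw [hu] at h3
      norm_num at h3
  have hsim : IsSimpleGroup (C ⧸ zpowers x) := simple_of (quot_cent hx hxc h) hqu
  obtain ⟨e0⟩ := quot_cent hx hxc h (q u) hqu
  have hcq : Nat.card (C ⧸ zpowers x) * 13 = Nat.card C := by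
    rw [Subgroup.card_eq_card_quotient_mul_card_subgroup (zpowers x), Nat.card_zpowers, hx]
  have h5616 : Nat.card (C ⧸ zpowers x) = 5616 := by
    rcases S0197.result (q u) hqu e0 with h1 | h1
    · exact h1
    · exfalso
      rw [← hcq, h1] at h169
      norm_num at h169
  obtain ⟨e⟩ := iso_of_card h5616
  have hcard : Nat.card C = 73008 := by rw [← hcq, h5616]
  have hinf : commutator C ⊓ zpowers x = ⊥ := by
    rw [eq_bot_iff]
    rintro y ⟨hyc, hyx⟩
    obtain ⟨P⟩ : Nonempty (Sylow 13 C) := inferInstance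
    have hPc : Nat.card P = 13 ^ 2 := by
      rw [P.card_eq_multiplicity, hcard, show (73008 : ℕ) = 13 ^ 2 * 432 by norm_num,
        Nat.factorization_mul (by norm_num) (by norm_num), Nat.Prime.factorization_pow (by norm_num : Nat.Prime 13),
        Finsupp.add_apply, Finsupp.single_eq_same, Nat.factorization_eq_zero_of_not_dvd (by norm_num : ¬ 13 ∣ 432)]
    have hcomm := IsPGroup.isMulCommutative_of_card_eq_prime_sq hPc
    let _ : CommGroup P := { (inferInstance : Group P) with mul_comm := fun a b => hcomm.is_comm.comm a b }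
    have hyP : y ∈ (P : Subgroup C) := by
      have h1 : IsPGroup 13 ↥((P : Subgroup C) ⊔ zpowers x) := by
        refine IsPGroup.to_sup_of_normal_right P.2 (IsPGroup.of_card (n := 1) (by rw [Nat.card_zpowers, hx, pow_one]))
      have h2 := P.3 h1 le_sup_left
      rw [← h2]
      exact mem_sup_right hyx
    have hyz : ∀ g : C, g * y = y * g := by
      intro g
      obtain ⟨k, rfl⟩ := mem_zpowers_iff.1 hyx
      exact ((show Commute g x from hxc g).zpow_right k).eq
    have key : ∀ (k : ℕ) (g₀ : C), g₀⁻¹ * y ^ k * g₀ ∈ (P : Subgroup C) → g₀⁻¹ * y ^ k * g₀ = y ^ k := by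
      intro k g₀ _
      have h1 : Commute g₀ (y ^ k) := (show Commute g₀ y from hyz g₀).pow_right k
      rw [mul_assoc, ← h1.eq, inv_mul_cancel_left]
    have htr := MonoidHom.transfer_eq_pow (MonoidHom.id P) y key
    have h1 : MonoidHom.transfer (MonoidHom.id P) y = 1 := by
      have h2 := Abelianization.commutator_subset_ker (MonoidHom.transfer (MonoidHom.id P))
      exact h2 hyc
    rw [h1] at htr
    have h3 : y ^ (P : Subgroup C).index = 1 := (congrArg Subtype.val htr).symm
    have hidx : ¬ 13 ∣ (P : Subgroup C).index := P.not_dvd_index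
    have h4 := zpowers_pow hx hyx
    have h5 : orderOf y ∣ 1 := by
      have h6 : Nat.gcd (P : Subgroup C).index 13 = 1 :=
        ((Nat.Prime.coprime_iff_not_dvd (by norm_num)).2 hidx).symm
      rw [← h6]
      exact Nat.dvd_gcd (orderOf_dvd_of_pow_eq_one h3) (orderOf_dvd_of_pow_eq_one h4)
    rw [mem_bot]
    exact orderOf_eq_one_iff.1 (Nat.dvd_one.1 h5)
  have hsup : commutator C ⊔ zpowers x = ⊤ := by
    have h1 : (commutator C).map q = ⊤ := by
      rw [commutator_def, Subgroup.map_commutator, Subgroup.map_top_of_surjective q (QuotientGroup.mk'_surjective _),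
        ← commutator_def]
      rcases hsim.eq_bot_or_eq_top_of_normal (commutator (C ⧸ zpowers x)) inferInstance with h2 | h2
      · exfalso
        have h3 := comm_of_commutator h2
        let _ : CommGroup (C ⧸ zpowers x) := { (inferInstance : Group (C ⧸ zpowers x)) with mul_comm := h3 }
        have h4 : (Nat.card (C ⧸ zpowers x)).Prime := IsSimpleGroup.prime_card
        rw [h5616] at h4
        norm_num at h4
      · exact h2
    rw [eq_top_iff]
    intro y _
    have h2 : q y ∈ (commutator C).map q := by rw [h1]; exact mem_top _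
    obtain ⟨c, hc, hcy⟩ := h2
    have h3 : q (c⁻¹ * y) = 1 := by rw [map_mul, map_inv, hcy, inv_mul_cancel]
    rw [hq1] at h3
    have : y = c * (c⁻¹ * y) := by group
    rw [this]
    exact mul_mem (mem_sup_left hc) (mem_sup_right h3)
  have e1 : commutator C ≃* C ⧸ zpowers x := by
    refine MulEquiv.ofBijective (q.comp (commutator C).subtype) ⟨?_, ?_⟩
    · rw [injective_iff_map_eq_one]
      intro y hy
      have h1 : q (y : C) = 1 := hy
      rw [hq1] at h1
      have h2 : (y : C) ∈ commutator C ⊓ zpowers x := mem_inf.2 ⟨y.2, h1⟩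
      rw [hinf, mem_bot] at h2
      exact Subtype.ext h2
    · intro v
      obtain ⟨g, rfl⟩ := QuotientGroup.mk'_surjective (zpowers x) v
      have hg : g ∈ commutator C ⊔ zpowers x := by rw [hsup]; exact mem_top g
      rw [Subgroup.mem_sup_of_normal_right] at hg
      obtain ⟨c, hc, y, hy, rfl⟩ := hg
      refine ⟨⟨c, hc⟩, ?_⟩
      change q c = q (c * y)
      rw [map_mul, (hq1 y).2 hy, mul_one]
  refine ⟨hcard, commutator C, inferInstance, hinf, hsup, ?_, ⟨e1.trans e⟩⟩
  rw [Nat.card_congr e1.toEquiv, h5616]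

end

end Cfsg.Agent.H657.M13
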