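import Cfsg.Agent.H139.LD.Struct13
import Cfsg.Agent.H154.StrP.M13
import Cfsg.Agent.H657.M13.CentQ

/-!
# The Monster: the centralizer of an element of order 13 commuting with a 2A-involution (helper657)
-/

set_option autoImplicit false
set_option maxRecDepth 100000
set_option linter.unusedSectionVars false

namespace Cfsg.Agent.H657.M13

open Subgroup Cfsg
open Cfsg.Agent.H182.Bad

section abs

variable {G : Type*} [Group G] [Finite G] {TT : Set G} {y : G}

/-- the three transpositions -/
theorem abs_three (S : BAbs.Sit TT y) (h6 : 6 ≤ Nat.card {t : G // t ∈ TT ∧ Commute t y})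
    (h3 : ∀ s ∈ TT, ∀ t ∈ TT, Commute s y → Commute t y → ¬ Commute s t → (s * t) ^ 3 = 1)
    (h9 : ¬ 9 ∣ Nat.card (centralizer ({y} : Set G))) :
    ∃ g ∈ TT, ∃ h ∈ TT, ∃ u ∈ TT, Commute g y ∧ Commute h y ∧ Commute u y ∧ ¬ Commute g h ∧ ¬ Commute u h ∧ u ≠ g ∧
      Commute u g := by
  classical
  obtain ⟨s, hs, t, ht, hsy, hty, hst⟩ := S.exists_noncomm (by omega)
  have hne : s ≠ t := by
    rintro rfl
    exact hst (Commute.refl s)
  set r := s * t * s with hr
  have hsi : s⁻¹ = s := inv_eq_of_mul_eq_one_left (S.sq s hs)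
  have hrT : r ∈ TT := by
    have := S.conj s t ht
    rwa [hsi] at this
  have hry : Commute r y := (hsy.mul_left hty).mul_left hsy
  have hmeet : ∀ u ∈ TT, Commute u y → u ≠ s → u ≠ t → u ≠ r → Commute u s ∨ Commute u t ∨ Commute u r := by
    intro u hu huy hus hut hur
    by_contra hcon
    push Not at hcon
    obtain ⟨c1, c2, c3⟩ := hcon
    have m : ∀ {x : G}, Commute x y → x ∈ centralizer ({y} : Set G) := fun h => mem_centralizer_singleton_iff.2 h.eq
    have key := H139.LD.no_three (H := ↥(centralizer ({y} : Set G))) h9 (s := ⟨s, m hsy⟩) (t := ⟨t, m hty⟩) (u := ⟨u, m huy⟩)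
      (Subtype.ext (S.sq s hs)) (Subtype.ext (S.sq t ht))
      (Subtype.ext (h3 s hs t ht hsy hty hst)) (Subtype.ext (h3 s hs u hu hsy huy (fun h => c1 h.symm)))
      (Subtype.ext (h3 t ht u hu hty huy (fun h => c2 h.symm)))
      (Subtype.ext (h3 r hrT u hu hry huy (fun h => c3 h.symm))) (fun h => hne (congrArg Subtype.val h))
    rcases key with h | h | h
    · exact hus (congrArg Subtype.val h)
    · exact hut (congrArg Subtype.val h)
    · exact hur (congrArg Subtype.val h)
  obtain ⟨g, hg, hgy, h, hh, hhy, hgh, u, hu, huy, hug, hcu⟩ : ∃ g ∈ TT, Commute g y ∧ ∃ h ∈ TT, Commute h y ∧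
      ¬ Commute g h ∧ ∃ u ∈ TT, Commute u y ∧ u ≠ g ∧ Commute u g := by
    by_contra hcon
    push Not at hcon
    set D : Set G := {u | u ∈ TT ∧ Commute u y} with hD
    have hD6' : Nat.card {t : G // t ∈ TT ∧ Commute t y} = D.ncard := Nat.card_coe_set_eq D
    have q2 : ¬ Commute t s := fun h => hst h.symm
    have q3 : ¬ Commute r s := by
      intro h
      apply hst
      have h5 : s * t * s * s = s * (s * t * s) := h
      have e1 : s * t * s * s = s * t := by rw [mul_assoc (s * t), S.sq s hs, mul_one]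
      have e2 : s * (s * t * s) = t * s := by
        calc s * (s * t * s) = (s * s) * t * s := by simp only [mul_assoc]
          _ = t * s := by rw [S.sq s hs, one_mul]
      rw [e1, e2] at h5
      exact h5
    have hsub : D ⊆ {s, t, r} := by
      rintro u ⟨hu, huy⟩
      by_contra hn
      simp only [Set.mem_insert_iff, Set.mem_singleton_iff, not_or] at hn
      obtain ⟨n1, n2, n3⟩ := hn
      rcases hmeet u hu huy n1 n2 n3 with h | h | h
      · exact hcon s hs hsy t ht hty hst u hu huy n1 h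
      · exact hcon t ht hty s hs hsy q2 u hu huy n2 h
      · exact hcon r hrT hry s hs hsy q3 u hu huy n3 h
    have h7 := Set.ncard_le_ncard hsub (Set.toFinite _)
    have i7 : ({s, t, r} : Set G).ncard ≤ 3 := by
      have j1 := Set.ncard_insert_le s ({t, r} : Set G)
      have j2 := Set.ncard_insert_le t ({r} : Set G)
      have j3 := Set.ncard_singleton r
      omega
    omega
  have huh : ¬ Commute u h := by
    intro hc
    have hgu : g ≠ u := fun h => hug h.symm
    have hhu : h ≠ u := by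
      rintro rfl
      exact hgh hcu.symm
    have h7 := S.partner hu huy hg hh hcu.symm hgy hc.symm hhy hgu hhu
    apply hgh
    rw [h7]
  exact ⟨g, hg, h, hh, u, hu, hgy, hhy, huy, hgh, huh, hug, hcu⟩

/-- three commuting involutions -/
theorem card_eight {X : Type*} [Group X] [Finite X] {a c τ : X} (haa : a * a = 1) (hcc : c * c = 1) (hττ : τ * τ = 1)
    (hac : a * c = c * a) (haτ : a * τ = τ * a) (hcτ : c * τ = τ * c) (h1 : τ ≠ 1) (h2 : a ≠ 1 ∧ a ≠ τ)
    (h3 : c ≠ 1 ∧ c ≠ τ ∧ c ≠ a ∧ c ≠ a * τ) :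
    (∀ x ∈ closure ({a, c, τ} : Set X), x * x = 1) ∧ 8 ≤ Nat.card (closure ({a, c, τ} : Set X)) := by
  classical
  set A : Subgroup X := closure {a, c, τ} with hA
  have ma : a ∈ A := subset_closure (by simp)
  have mc : c ∈ A := subset_closure (by simp)
  have mt : τ ∈ A := subset_closure (by simp)
  have hgen : ∀ x ∈ ({a, c, τ} : Set X), ∀ y ∈ ({a, c, τ} : Set X), x * y = y * x := by
    rintro x (rfl | rfl | rfl) y (rfl | rfl | rfl)
    · rfl
    · exact hac
    · exact haτ
    · exact hac.symm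
    · rfl
    · exact hcτ
    · exact haτ.symm
    · exact hcτ.symm
    · rfl
  have hcomm : ∀ x ∈ A, ∀ y ∈ A, x * y = y * x := by
    intro x hx y hy
    have := Subgroup.isMulCommutative_closure (k := ({a, c, τ} : Set X)) hgen
    exact congrArg Subtype.val (this.is_comm.comm (⟨x, hx⟩ : A) ⟨y, hy⟩)
  have hsq : ∀ x ∈ A, x * x = 1 := by
    intro x hx
    refine closure_induction (p := fun x _ => x * x = 1) ?_ ?_ ?_ ?_ hx
    · rintro x (rfl | rfl | rfl)
      · exact haa
      · exact hcc
      · exact hττ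
    · exact one_mul 1
    · intro x y hx hy hxx hyy
      calc x * y * (x * y) = x * (y * x) * y := by group
        _ = x * (x * y) * y := by rw [hcomm y hy x hx]
        _ = (x * x) * (y * y) := by group
        _ = 1 := by rw [hxx, hyy, one_mul]
    · intro x _ hxx
      rw [← mul_inv_rev, hxx, inv_one]
  refine ⟨hsq, ?_⟩
  have hp : IsPGroup 2 A := by
    intro x
    refine ⟨1, ?_⟩
    rw [pow_one, pow_two]
    exact Subtype.ext (hsq x x.2)
  obtain ⟨n, hn⟩ := IsPGroup.iff_card.1 hp
  have h5 : 5 ≤ Nat.card A := by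
    have e1 : a * τ ≠ 1 := by
      intro h
      apply h2.2
      calc a = a * (τ * τ) := by rw [hττ, mul_one]
        _ = (a * τ) * τ := by group
        _ = τ := by rw [h, one_mul]
    have e2 : a * τ ≠ τ := fun h => h2.1 (mul_eq_right.1 h)
    have e3 : a * τ ≠ a := fun h => h1 (mul_eq_left.1 h)
    have hcard5 : ({1, τ, a, a * τ, c} : Finset X).card = 5 := by
      rw [Finset.card_insert_of_notMem, Finset.card_insert_of_notMem, Finset.card_insert_of_notMem,
        Finset.card_insert_of_notMem, Finset.card_singleton]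
      · simp only [Finset.mem_singleton]
        exact fun h => h3.2.2.2 h.symm
      · simp only [Finset.mem_insert, Finset.mem_singleton, not_or]
        exact ⟨fun h => e3 h.symm, fun h => h3.2.2.1 h.symm⟩
      · simp only [Finset.mem_insert, Finset.mem_singleton, not_or]
        exact ⟨fun h => h2.2 h.symm, fun h => e2 h.symm, fun h => h3.2.1 h.symm⟩
      · simp only [Finset.mem_insert, Finset.mem_singleton, not_or]
        exact ⟨fun h => h1 h.symm, fun h => h2.1 h.symm, fun h => e1 h.symm, fun h => h3.1 h.symm⟩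
    have h6 : (↑({1, τ, a, a * τ, c} : Finset X) : Set X) ⊆ (A : Set X) := by
      intro x hx
      simp only [Finset.coe_insert, Finset.coe_singleton, Set.mem_insert_iff, Set.mem_singleton_iff] at hx
      rcases hx with rfl | rfl | rfl | rfl | rfl
      · exact one_mem A
      · exact mt
      · exact ma
      · exact mul_mem ma mt
      · exact mc
    have h7 := Set.ncard_le_ncard h6 (Set.toFinite _)
    rw [Set.ncard_coe_finset, hcard5] at h7
    exact h7.trans (Nat.card_coe_set_eq (A : Set X)).ge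
  rw [hn] at h5 ⊢
  have h6 : 3 ≤ n := by
    by_contra h7
    have h8 : 2 ^ n ≤ 2 ^ 2 := Nat.pow_le_pow_right (by norm_num) (by omega)
    omega
  calc 8 = 2 ^ 3 := by norm_num
    _ ≤ 2 ^ n := Nat.pow_le_pow_right (by norm_num) h6

open Cfsg.Agent.R01.Lifts in
open Cfsg.Agent.H182.Bad.BLift (comm_lift) in
/-- **The centralizer in the double cover.** -/
theorem base_abs {X B : Type*} [Group X] [Finite X] [Group B] [Finite B] {q : X →* B} {τ : X} (hq : Ext q τ) {u : X}
    (hu : orderOf u = 13) (hcard : Nat.card (centralizer ({q u} : Set B)) = 312)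
    {g h k : B} (hgy : Commute g (q u)) (hhy : Commute h (q u)) (hky : Commute k (q u))
    (h3g : (g * h) ^ 3 = 1) (h3k : (k * h) ^ 3 = 1) (hkgc : Commute k g) (hkg : k ≠ g) (hg1 : g ≠ 1) (hk1 : k ≠ 1)
    (lg : ∃ a : X, a * a = 1 ∧ q a = g) (lh : ∃ a : X, a * a = 1 ∧ q a = h) (lk : ∃ a : X, a * a = 1 ∧ q a = k)
    (hr : ∀ A : Subgroup X, A ≤ centralizer ({u} : Set X) → (∀ a ∈ A, a * a = 1) → Nat.card A < 8) :
    Nat.card (centralizer ({u} : Set X)) = 624 ∧
      ∃ K : Subgroup X, K ≤ centralizer ({u} : Set X) ∧ Nonempty (K ≃* Characters.GL23.Grp) := by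
  obtain ⟨a, haa, hqa⟩ := lg
  obtain ⟨b0, hbb0, hqb0⟩ := lh
  obtain ⟨c0, hcc0, hqc0⟩ := lk
  have hau : a * u = u * a := comm_lift hq hu (by rw [hqa]; exact hgy)
  have hb0u : b0 * u = u * b0 := comm_lift hq hu (by rw [hqb0]; exact hhy)
  have hc0u : c0 * u = u * c0 := comm_lift hq hu (by rw [hqc0]; exact hky)
  have hqz : q τ = 1 := (hq.ker τ).2 (Or.inr rfl)
  have hτu : τ * u = u * τ := (hq.comm u).symm
  have sgn : ∀ {a' b' : X}, b' * b' = 1 → (q a' * q b') ^ 3 = 1 → b' * u = u * b' →
      ∃ b : X, b * b = 1 ∧ q b = q b' ∧ b * u = u * b ∧ (a' * b) ^ 3 = 1 := by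
    intro a' b' h1 h2 h2'
    have h3 : q ((a' * b') ^ 3) = 1 := by rw [map_pow, map_mul, h2]
    rcases (hq.ker _).1 h3 with h4 | h4
    · exact ⟨b', h1, rfl, h2', h4⟩
    · refine ⟨b' * τ, ?_, ?_, ?_, ?_⟩
      · calc b' * τ * (b' * τ) = b' * (τ * b') * τ := by group
          _ = b' * (b' * τ) * τ := by rw [hq.comm b']
          _ = (b' * b') * (τ * τ) := by group
          _ = 1 := by rw [h1, hq.zz, one_mul]
      · rw [map_mul, hqz, mul_one]
      · calc b' * τ * u = b' * (τ * u) := by group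
          _ = b' * (u * τ) := by rw [hτu]
          _ = (b' * u) * τ := by group
          _ = (u * b') * τ := by rw [h2']
          _ = u * (b' * τ) := by group
      · have h5 : Commute (a' * b') τ := hq.comm (a' * b')
        rw [← mul_assoc, h5.mul_pow, h4]
        calc τ * τ ^ 3 = (τ * τ) * (τ * τ) := by
              simp only [pow_succ, pow_zero, one_mul, mul_assoc]
          _ = 1 := by rw [hq.zz, one_mul]
  obtain ⟨b, hbb, hqb, hbu, hab3⟩ := sgn (a' := a) (b' := b0) hbb0 (by rw [hqa, hqb0]; exact h3g) hb0u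
  rw [hqb0] at hqb
  obtain ⟨c, hcc, hqc, hcu, hbc3⟩ := sgn (a' := b) (b' := c0) hcc0 (by
    rw [hqb, hqc0]
    have hhk : (h * k) ^ 3 = k⁻¹ * (k * h) ^ 3 * k := by
      simp only [pow_succ, pow_zero, one_mul]
      group
    rw [hhk, h3k]
    group) hc0u
  rw [hqc0] at hqc
  have hac1 : a * c ≠ c * a := by
    intro hc'
    have e1 : a ≠ 1 := by rintro rfl; exact hg1 (by rw [← hqa, map_one])
    have e2 : a ≠ τ := by rintro rfl; exact hg1 (by rw [← hqa, hqz])
    have e3 : c ≠ 1 := by rintro rfl; exact hk1 (by rw [← hqc, map_one])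
    have e4 : c ≠ τ := by rintro rfl; exact hk1 (by rw [← hqc, hqz])
    have e5 : c ≠ a := by rintro rfl; exact hkg (by rw [← hqc, hqa])
    have e6 : c ≠ a * τ := by rintro h; exact hkg (by rw [← hqc, h, map_mul, hqz, mul_one, hqa])
    obtain ⟨f1, f2⟩ := card_eight haa hcc hq.zz hc' (hq.comm a) (hq.comm c) hq.zne ⟨e1, e2⟩ ⟨e3, e4, e5, e6⟩
    have f3 := hr _ (by
      rw [closure_le]
      rintro x (rfl | rfl | rfl)
      · exact mem_centralizer_singleton_iff.2 hau
      · exact mem_centralizer_singleton_iff.2 hcu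
      · exact mem_centralizer_singleton_iff.2 hτu) f1
    omega
  have hacz : a * c = τ * (c * a) := by
    have h1 : q (a * c * (c * a)⁻¹) = 1 := by
      rw [map_mul, map_inv, map_mul, map_mul, hqa, hqc, hkgc.eq]
      group
    rcases (hq.ker _).1 h1 with h2 | h2
    · exact absurd (mul_inv_eq_one.1 h2) hac1
    · exact mul_inv_eq_iff_eq_mul.1 h2
  have hrel : Rel a b c τ := by
    refine ⟨haa, hbb, hcc, hq.zz, hq.zne, ?_, ?_, hacz, (hq.comm a).symm, (hq.comm b).symm, (hq.comm c).symm⟩
    · exact H139.LD.comm_braid haa hbb hab3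
    · exact (H139.LD.comm_braid hbb hcc hbc3).symm
  constructor
  · let f : ↥(centralizer ({u} : Set X)) →* ↥(centralizer ({q u} : Set B)) :=
      (q.comp (centralizer ({u} : Set X)).subtype).codRestrict _ (by
        intro c
        rw [mem_centralizer_singleton_iff]
        change q (c : X) * q u = q u * q (c : X)
        rw [← map_mul, ← map_mul, mem_centralizer_singleton_iff.1 c.2])
    have hf : Function.Surjective f := by
      intro c
      obtain ⟨k, hk⟩ := hq.surj (c : B)
      have hku : k * u = u * k := comm_lift hq hu (by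
        rw [hk]
        exact mem_centralizer_singleton_iff.1 c.2)
      exact ⟨⟨k, mem_centralizer_singleton_iff.2 hku⟩, Subtype.ext hk⟩
    have h2 := f.ker.card_mul_index
    obtain ⟨τ', hτ'⟩ : ∃ τ' : ↥(centralizer ({u} : Set X)), τ' = ⟨τ, mem_centralizer_singleton_iff.2 hτu⟩ := ⟨_, rfl⟩
    have hτv : (τ' : X) = τ := by rw [hτ']
    have hττ' : τ' * τ' = 1 := Subtype.ext (by rw [Subgroup.coe_mul, hτv, hq.zz]; rfl)
    have hker : f.ker = zpowers τ' := by
      ext x
      rw [MonoidHom.mem_ker]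
      have hx : f x = 1 ↔ q (x : X) = 1 := ⟨fun h => congrArg Subtype.val h, fun h => Subtype.ext h⟩
      rw [hx, hq.ker]
      constructor
      · rintro (h1 | h1)
        · have : x = 1 := Subtype.ext h1
          rw [this]; exact one_mem _
        · have : x = τ' := Subtype.ext (h1.trans hτv.symm)
          rw [this]; exact mem_zpowers _
      · intro h1
        obtain ⟨i, rfl⟩ := mem_zpowers_iff.1 h1
        rcases Int.even_or_odd' i with ⟨j, rfl | rfl⟩
        · left
          rw [zpow_mul, zpow_two, hττ', one_zpow]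
          rfl
        · right
          rw [zpow_add, zpow_mul, zpow_two, hττ', one_zpow, one_mul, zpow_one]
          exact hτv
    have h3 : orderOf τ' = 2 := by
      refine orderOf_eq_prime (by rw [pow_two]; exact hττ') ?_
      intro h
      apply hq.zne
      rw [← hτv, h]
      rfl
    rw [Subgroup.index_ker, MonoidHom.range_eq_top.2 hf, Nat.card_congr (Subgroup.topEquiv).toEquiv, hcard, hker,
      Nat.card_zpowers, h3] at h2
    omega
  · refine ⟨closure {a, b, c}, ?_, gl_of hrel⟩
    rw [closure_le]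
    rintro x (rfl | rfl | rfl)
    · exact mem_centralizer_singleton_iff.2 hau
    · exact mem_centralizer_singleton_iff.2 hbu
    · exact mem_centralizer_singleton_iff.2 hcu

end abs

open Cfsg.Lie Cfsg.Agent.Bimonster Cfsg.Agent.Bimonster.Tits Cfsg.Agent.BabyU
open Cfsg.Agent.MonsterX.KSide Cfsg.Agent.MonsterX.KLift Cfsg.Agent.MonsterX.KModel
open Cfsg.Agent.MonsterX.Model Cfsg.Agent.MonsterX.MainPack Cfsg.Agent.MonsterX.MainSimple
open Cfsg.Agent.MonsterX.MainBasic Cfsg.Agent.MonsterU.Assembly Cfsg.Agent.MonsterN.Lit Cfsg.Agent.MonsterN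
open Cfsg.Agent.MonsterN.LitInst Cfsg.Agent.MonsterU.Lam2 Cfsg.Agent.MonsterU.TwoCls
open Cfsg.Agent.BabyComp Cfsg.Agent.R01.Lifts
open Cfsg.Agent.BpSpor.MBigPure
open Cfsg.Agent.MonsterX Cfsg.Agent.MonsterX.InstData Cfsg.Agent.MonsterP Cfsg.Agent.BpSpor.MBigModel
open Cfsg.Agent.LThreeB.Row (TA)
open Cfsg.Agent.MThirteen
open Cfsg.Agent.H182.Bad.BLift (lift13 comm_lift exists_cover)
open Cfsg.Agent.H182.Bad.RowB (t1)

/-- three transpositions of the Baby Monster -/
theorem three_b {y : Spor.BabyMonster} (hy : orderOf y = 13) :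
    ∃ g h u : Spor.BabyMonster, IsConj t1 g ∧ IsConj t1 h ∧ IsConj t1 u ∧ Commute g y ∧ Commute h y ∧ Commute u y ∧
      ¬ Commute g h ∧ ¬ Commute u h ∧ u ≠ g ∧ Commute u g := by
  have hfB := H182.Bad.RowB.finite_b
  have hsit := H182.Bad.RowB.sit hy
  suffices h6 : 6 ≤ Nat.card {t : Spor.BabyMonster // t ∈ {t : Spor.BabyMonster | IsConj t1 t} ∧ Commute t y} by
    obtain ⟨g, hg, h, hh, u, hu, h1⟩ := abs_three hsit h6
      (fun s hs t ht hsy hty hst => H139.LD.cube hy hs ht hsy hty hst) (H139.LD.not_nine hy)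
    exact ⟨g, h, u, hg, hh, hu, h1⟩
  have h13 : Fact (Nat.Prime 13) := ⟨by norm_num⟩
  obtain ⟨-, -, h3⟩ := H182.Bad.RowB.t1_facts
  have h4 := H182.Bad.BSec.card_modEq hy {t : Spor.BabyMonster | IsConj t1 t}
    (fun g t ht => IsConj.trans ht (isConj_iff.2 ⟨g, rfl⟩))
  have h5 : Nat.card {t : Spor.BabyMonster | IsConj t1 t} = (centralizer ({t1} : Set Spor.BabyMonster)).index :=
    H182.Bad.BSec.card_conj t1
  have h6 := (centralizer ({t1} : Set Spor.BabyMonster)).card_mul_index
  rw [h3, H182.Bad.RowB.card_b] at h6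
  have h7 : (centralizer ({t1} : Set Spor.BabyMonster)).index = 13571955000 := by omega
  rw [h5, h7] at h4
  have h8 : 13571955000 % 13 = 6 := by norm_num
  unfold Nat.ModEq at h4
  omega

/-- **The centralizer in `C(τ)`, `τ` the standard 2A-involution.** -/
theorem base {u : BB KDone.K KLinkInst.x₀} (hu : orderOf u = 13) :
    Nat.card (centralizer ({u} : Set (BB KDone.K KLinkInst.x₀))) = 624 ∧
      ∃ K : Subgroup (BB KDone.K KLinkInst.x₀), K ≤ centralizer ({u} : Set (BB KDone.K KLinkInst.x₀)) ∧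
        Nonempty (K ≃* Characters.GL23.Grp) := by
  have hfB := H182.Bad.RowB.finite_b
  have hfin : Finite MG := MThirteen.Row.finite
  obtain ⟨q, d, hq, hdd, hqd⟩ := exists_cover
  have hqu : orderOf (q u) = 13 := by
    have h13 : Fact (Nat.Prime 13) := ⟨by norm_num⟩
    refine orderOf_eq_prime ?_ ?_
    · rw [← map_pow, ← hu, pow_orderOf_eq_one, map_one]
    · intro h1
      rcases (hq.ker _).1 h1 with h2 | h2
      · rw [h2, orderOf_one] at hu
        norm_num at hu
      · have h3 : u * u = 1 := by rw [h2]; exact hq.zz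
        have h4 := orderOf_dvd_of_pow_eq_one (show u ^ 2 = 1 by rw [pow_two, h3])
        rw [hu] at h4
        norm_num at h4
  obtain ⟨hcard, -⟩ := H139.LD.struct13_model hqu
  obtain ⟨g, h, k, hg, hh, hk, hgy, hhy, hky, hgh, hkh, hkg, hkgc⟩ := three_b hqu
  have hne : ∀ {r : Spor.BabyMonster}, IsConj t1 r → r ≠ 1 := by
    rintro r hr rfl
    obtain ⟨c, hc⟩ := isConj_iff.1 hr
    apply H182.Bad.RowB.t1_facts.2.1
    calc t1 = c⁻¹ * (c * t1 * c⁻¹) * c := by group
      _ = 1 := by rw [hc]; group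
  refine base_abs hq hu hcard hgy hhy hky (H139.LD.cube hqu hg hh hgy hhy hgh) (H139.LD.cube hqu hk hh hky hhy hkh) hkgc
    hkg (hne hg) (hne hk) (H139.LD.exists_lift hq hdd hqd hg) (H139.LD.exists_lift hq hdd hqd hh)
    (H139.LD.exists_lift hq hdd hqd hk) ?_
  intro A hA hAA
  have hux : orderOf (u : MG) = 13 := by rw [Subgroup.orderOf_coe, hu]
  let A' : Subgroup ↥(centralizer ({(u : MG)} : Set MG)) :=
    (A.map (BB KDone.K KLinkInst.x₀).subtype).subgroupOf (centralizer ({(u : MG)} : Set MG))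
  have hle : A.map (BB KDone.K KLinkInst.x₀).subtype ≤ centralizer ({(u : MG)} : Set MG) := by
    rintro _ ⟨x, hx, rfl⟩
    exact mem_centralizer_singleton_iff.2 (congrArg Subtype.val (mem_centralizer_singleton_iff.1 (hA hx)))
  have h1 : Nat.card A' = Nat.card A := by
    rw [Nat.card_congr (Subgroup.subgroupOfEquivOfLe hle).toEquiv]
    exact Subgroup.card_map_of_injective (Subgroup.subtype_injective _)
  rw [← h1]
  refine H154.StrP.M13.rank hux A' ?_
  rintro a ⟨x, hx, hxa⟩
  apply Subtype.ext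
  rw [Subgroup.coe_mul]
  have h2 : (a : MG) = x := hxa.symm
  rw [h2]
  exact congrArg Subtype.val (hAA x hx)

end Cfsg.Agent.H657.M13
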