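import Cfsg.Agent.H657.M13.CentA
import Cfsg.Agent.H609.Inv.MThirC

/-!
# The Monster: `C(x) = ⟨x⟩ × L₃(3)` for `x` of order 13 commuting with no 2B-involution (helper657)
-/

set_option autoImplicit false
set_option maxRecDepth 100000
set_option linter.unusedSectionVars false

namespace Cfsg.Agent.H657.M13

open Subgroup Cfsg
open Cfsg.Agent.H182.Bad
open Cfsg.Lie Cfsg.Agent.Bimonster Cfsg.Agent.Bimonster.Tits Cfsg.Agent.BabyU
open Cfsg.Agent.MonsterX.KSide Cfsg.Agent.MonsterX.KLift Cfsg.Agent.MonsterX.KModel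
open Cfsg.Agent.MonsterX.Model Cfsg.Agent.MonsterX.MainPack Cfsg.Agent.MonsterX.MainSimple
open Cfsg.Agent.MonsterX.MainBasic Cfsg.Agent.MonsterU.Assembly Cfsg.Agent.MonsterN.Lit Cfsg.Agent.MonsterN
open Cfsg.Agent.MonsterN.LitInst Cfsg.Agent.MonsterU.Lam2 Cfsg.Agent.MonsterU.TwoCls
open Cfsg.Agent.BabyComp Cfsg.Agent.R01.Lifts
open Cfsg.Agent.BpSpor.MBigPure
open Cfsg.Agent.MonsterX Cfsg.Agent.MonsterX.InstData Cfsg.Agent.MonsterP Cfsg.Agent.BpSpor.MBigModel
open Cfsg.Agent.LThreeB.Row (TA)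
open Cfsg.Agent.MThirteen

/-- the model over `C(τ)` in the Monster -/
theorem base_M {x : MG} (hx : orderOf x = 13) (hxt : x * KDone.K.ι KLinkInst.x₀ = KDone.K.ι KLinkInst.x₀ * x) :
    Nat.card ↥(centralizer ({x} : Set MG) ⊓ centralizer ({KDone.K.ι KLinkInst.x₀} : Set MG)) = 624 ∧
      ∃ K : Subgroup MG, K ≤ centralizer ({x} : Set MG) ⊓ centralizer ({KDone.K.ι KLinkInst.x₀} : Set MG) ∧
        Nonempty (K ≃* Characters.GL23.Grp) := by
  have hfin : Finite MG := MThirteen.Row.finite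
  set T : Subgroup MG := centralizer ({KDone.K.ι KLinkInst.x₀} : Set MG) with hT
  obtain ⟨u, hu⟩ : ∃ u : BB KDone.K KLinkInst.x₀, (u : MG) = x := ⟨⟨x, mem_centralizer_singleton_iff.2 hxt⟩, rfl⟩
  have huo : orderOf u = 13 := by rw [← Subgroup.orderOf_coe, hu, hx]
  obtain ⟨h1, K, hK, ⟨e⟩⟩ := base huo
  constructor
  · rw [← h1]
    have h2 : (centralizer ({u} : Set (BB KDone.K KLinkInst.x₀))).map (BB KDone.K KLinkInst.x₀).subtype =
        centralizer ({x} : Set MG) ⊓ T := by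
      ext y
      constructor
      · rintro ⟨v, hv, rfl⟩
        refine mem_inf.2 ⟨mem_centralizer_singleton_iff.2 ?_, v.2⟩
        have h3 := congrArg Subtype.val (mem_centralizer_singleton_iff.1 hv)
        rw [Subgroup.coe_mul, Subgroup.coe_mul, hu] at h3
        exact h3
      · intro hy
        obtain ⟨h3, h4⟩ := mem_inf.1 hy
        refine ⟨⟨y, h4⟩, mem_centralizer_singleton_iff.2 (Subtype.ext ?_), rfl⟩
        rw [Subgroup.coe_mul, Subgroup.coe_mul, hu]
        exact mem_centralizer_singleton_iff.1 h3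
    rw [← h2]
    exact Subgroup.card_map_of_injective (Subgroup.subtype_injective _)
  · refine ⟨K.map (BB KDone.K KLinkInst.x₀).subtype, ?_,
      ⟨(K.equivMapOfInjective (BB KDone.K KLinkInst.x₀).subtype (Subgroup.subtype_injective _)).symm.trans e⟩⟩
    rintro _ ⟨v, hv, rfl⟩
    refine mem_inf.2 ⟨mem_centralizer_singleton_iff.2 ?_, v.2⟩
    have h3 := congrArg Subtype.val (mem_centralizer_singleton_iff.1 (hK hv))
    rw [Subgroup.coe_mul, Subgroup.coe_mul, hu] at h3
    exact h3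

theorem isConj_ta {u : MG} (hu : TA u) : IsConj u (KDone.K.ι KLinkInst.x₀) :=
  (show IsConj _ u from hu).symm.trans (LThreeB.Par.ta_iota LitFin.all KDone.lnk KDone.lft)

/-- conjugation -/
theorem conj_data {G : Type*} [Group G] (g : G) {x u : G} {Y : Type*} [Group Y] {n : ℕ}
    (h : Nat.card ↥(centralizer ({g * x * g⁻¹} : Set G) ⊓ centralizer ({g * u * g⁻¹} : Set G)) = n ∧
      ∃ K : Subgroup G, K ≤ centralizer ({g * x * g⁻¹} : Set G) ⊓ centralizer ({g * u * g⁻¹} : Set G) ∧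
        Nonempty (K ≃* Y)) :
    Nat.card ↥(centralizer ({x} : Set G) ⊓ centralizer ({u} : Set G)) = n ∧
      ∃ K : Subgroup G, K ≤ centralizer ({x} : Set G) ⊓ centralizer ({u} : Set G) ∧ Nonempty (K ≃* Y) := by
  obtain ⟨h1, K, hK, ⟨e⟩⟩ := h
  have key : ∀ y v : G, y ∈ centralizer ({g * v * g⁻¹} : Set G) ↔ g⁻¹ * y * g ∈ centralizer ({v} : Set G) := by
    intro y v
    rw [mem_centralizer_singleton_iff, mem_centralizer_singleton_iff]
    constructor
    · intro h
      calc g⁻¹ * y * g * v = g⁻¹ * (y * (g * v * g⁻¹)) * g := by group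
        _ = g⁻¹ * ((g * v * g⁻¹) * y) * g := by rw [h]
        _ = v * (g⁻¹ * y * g) := by group
    · intro h
      calc y * (g * v * g⁻¹) = g * ((g⁻¹ * y * g) * v) * g⁻¹ := by group
        _ = g * (v * (g⁻¹ * y * g)) * g⁻¹ := by rw [h]
        _ = g * v * g⁻¹ * y := by group
  have hmap : (centralizer ({g * x * g⁻¹} : Set G) ⊓ centralizer ({g * u * g⁻¹} : Set G)).map
      (MulAut.conj g⁻¹).toMonoidHom = centralizer ({x} : Set G) ⊓ centralizer ({u} : Set G) := by
    ext y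
    constructor
    · rintro ⟨v, hv, rfl⟩
      obtain ⟨a1, a2⟩ := mem_inf.1 hv
      change g⁻¹ * v * g⁻¹⁻¹ ∈ _
      rw [inv_inv]
      exact mem_inf.2 ⟨(key _ _).1 a1, (key _ _).1 a2⟩
    · intro hy
      obtain ⟨a1, a2⟩ := mem_inf.1 hy
      refine ⟨g * y * g⁻¹, mem_inf.2 ⟨(key _ _).2 ?_, (key _ _).2 ?_⟩, ?_⟩
      · have : g⁻¹ * (g * y * g⁻¹) * g = y := by group
        rw [this]; exact a1
      · have : g⁻¹ * (g * y * g⁻¹) * g = y := by group
        rw [this]; exact a2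
      · change g⁻¹ * (g * y * g⁻¹) * g⁻¹⁻¹ = y
        group
  constructor
  · rw [← hmap, Subgroup.card_map_of_injective (MulAut.conj g⁻¹).injective, h1]
  · refine ⟨K.map (MulAut.conj g⁻¹).toMonoidHom, ?_,
      ⟨(K.equivMapOfInjective (MulAut.conj g⁻¹).toMonoidHom (MulAut.conj g⁻¹).injective).symm.trans e⟩⟩
    rw [← hmap]
    exact Subgroup.map_mono hK

theorem cent_inv {x u : MG} (hx : orderOf x = 13) (hu : TA u) (hxu : x * u = u * x) :
    Nat.card ↥(centralizer ({x} : Set MG) ⊓ centralizer ({u} : Set MG)) = 624 ∧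
      ∃ K : Subgroup MG, K ≤ centralizer ({x} : Set MG) ⊓ centralizer ({u} : Set MG) ∧
        Nonempty (K ≃* Characters.GL23.Grp) := by
  obtain ⟨g, hg⟩ := isConj_iff.1 (isConj_ta hu)
  apply conj_data g
  rw [hg]
  apply base_M
  · have := MulEquiv.orderOf_eq (MulAut.conj g) x
    rw [MulAut.conj_apply] at this
    rw [this, hx]
  · rw [← hg]
    calc g * x * g⁻¹ * (g * u * g⁻¹) = g * (x * u) * g⁻¹ := by group
      _ = g * (u * x) * g⁻¹ := by rw [hxu]
      _ = g * u * g⁻¹ * (g * x * g⁻¹) := by group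

/-- **`C(x)` for `x` in 13A.** -/
theorem centA {x : MG} (hx : orderOf x = 13) (hb : ∀ g : MG, (g * KDone.K.z * g⁻¹) * x ≠ x * (g * KDone.K.z * g⁻¹))
    (hex : ∃ u : MG, orderOf u = 2 ∧ u * x = x * u) :
    Nat.card ↥(centralizer ({x} : Set MG)) = 73008 ∧
      ∃ L : Subgroup ↥(centralizer ({x} : Set MG)), L.Normal ∧
        L ⊓ zpowers (⟨x, mem_centralizer_singleton_iff.2 rfl⟩ : ↥(centralizer ({x} : Set MG))) = ⊥ ∧
        L ⊔ zpowers (⟨x, mem_centralizer_singleton_iff.2 rfl⟩ : ↥(centralizer ({x} : Set MG))) = ⊤ ∧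
        Nat.card L = 5616 ∧ Nonempty (L ≃* Matrix.SpecialLinearGroup (Fin 3) (ZMod 3)) := by
  have hfin : Finite MG := MThirteen.Row.finite
  have h13 : Fact (Nat.Prime 13) := ⟨by norm_num⟩
  have h2 : Fact (Nat.Prime 2) := ⟨Nat.prime_two⟩
  refine struct ?_ ?_ ?_ ?_ ?_
  · rw [Subgroup.orderOf_mk, hx]
  · intro g
    exact Subtype.ext (mem_centralizer_singleton_iff.1 g.2)
  · -- `13²` divides
    have h3 : 13 ^ 3 ∣ Nat.card MG := by
      rw [Cfsg.Agent.MonsterP.EquivOf.isM_model.2]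
      norm_num
    have h1 : Nat.card ↥(zpowers x) = 13 ^ 1 := by rw [Nat.card_zpowers, hx, pow_one]
    obtain ⟨K, hK, hle⟩ := Sylow.exists_subgroup_card_pow_prime_le 13
      ((pow_dvd_pow 13 (by norm_num : 2 ≤ 3)).trans h3) (zpowers x) h1 (by norm_num)
    rw [← hK]
    refine Subgroup.card_dvd_of_le fun k hk => mem_centralizer_singleton_iff.2 ?_
    have hc := (IsPGroup.isMulCommutative_of_card_eq_prime_sq hK).is_comm.comm (⟨k, hk⟩ : ↥K)
      ⟨x, hle (Subgroup.mem_zpowers x)⟩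
    exact congrArg Subtype.val hc
  · obtain ⟨u, hu, hux⟩ := hex
    exact ⟨⟨u, mem_centralizer_singleton_iff.2 hux⟩, by rw [Subgroup.orderOf_mk, hu]⟩
  · intro u hu
    have huo : orderOf (u : MG) = 2 := by rw [Subgroup.orderOf_coe, hu]
    have hux : (u : MG) * x = x * u := mem_centralizer_singleton_iff.1 u.2
    have huu : (u : MG) * u = 1 := by rw [← pow_two, ← huo, pow_orderOf_eq_one]
    have hu1 : (u : MG) ≠ 1 := by
      intro h
      rw [h, orderOf_one] at huo
      norm_num at huo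
    have hta : TA (u : MG) := TwoARow.ta hb huu hu1 hux
    obtain ⟨h1, K, hK, ⟨e⟩⟩ := cent_inv hx hta hux.symm
    have hmap : (centralizer ({u} : Set ↥(centralizer ({x} : Set MG)))).map (centralizer ({x} : Set MG)).subtype =
        centralizer ({x} : Set MG) ⊓ centralizer ({(u : MG)} : Set MG) := by
      ext y
      constructor
      · rintro ⟨v, hv, rfl⟩
        exact mem_inf.2 ⟨v.2, mem_centralizer_singleton_iff.2 (congrArg Subtype.val (mem_centralizer_singleton_iff.1 hv))⟩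
      · intro hy
        obtain ⟨a1, a2⟩ := mem_inf.1 hy
        exact ⟨⟨y, a1⟩, mem_centralizer_singleton_iff.2 (Subtype.ext (mem_centralizer_singleton_iff.1 a2)), rfl⟩
    constructor
    · rw [← h1, ← hmap]
      exact (Subgroup.card_map_of_injective (Subgroup.subtype_injective _)).symm
    · refine ⟨K.subgroupOf (centralizer ({x} : Set MG)), ?_, ⟨(Subgroup.subgroupOfEquivOfLe (hK.trans inf_le_left)).trans e⟩⟩
      intro y hy
      exact mem_centralizer_singleton_iff.2 (Subtype.ext (mem_centralizer_singleton_iff.1 (mem_inf.1 (hK hy)).2))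

end Cfsg.Agent.H657.M13
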