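import Cfsg.Agent.H657.M13.CardB
import Cfsg.Agent.H131.T5M13C
import Cfsg.Agent.H994.M23.Norm
import Cfsg.Agent.H266.M13.LCard

/-!
# The two classes of elements of order 13 of the Monster, abstractly (helper657)
-/

set_option autoImplicit false
set_option linter.unusedSectionVars false

namespace Cfsg.Agent.H657.M13

open Subgroup Cfsg Cfsg.Agent.H609.Inv.Thirteen
open Cfsg.Agent.H131.T5M13 (D TB zp exists_syl exists_conj_le exists_nat_pow mem_normalizer_of)
open Cfsg.Agent.H131.T5Cube (Cu)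

universe u

section

variable {G : Type u} [Group G] [Finite G] {x z t : G} {Q R W : Subgroup G}

theorem exists_cu (h : D x z t Q) : ∃ R W : Subgroup G, RW x Q R W ∧ Cu 13 R x := by
  obtain ⟨R, W, hr⟩ := exists_RW h
  refine ⟨R, W, hr, hr.card, h.hyp.hx, hr.mem, hr.cen, ?_⟩
  by_contra hcon
  push Not at hcon
  exact Ab.false h ⟨hr, hcon⟩

theorem syl_na (h : D x z t Q) (hcu : Cu 13 R x) (S : Sylow 13 G) :
    ∃ a ∈ (S : Subgroup G), ∃ b ∈ (S : Subgroup G), a * b ≠ b * a := by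
  have hp : Fact (Nat.Prime 13) := ⟨by norm_num⟩
  obtain ⟨S0, hS0⟩ := exists_syl hcu.card h.hyp.h4
  obtain ⟨g, hg⟩ := MulAction.exists_smul_eq G S0 S
  obtain ⟨a, ha, b, hb, hab⟩ := hcu.nc
  have key : ∀ r ∈ R, g * r * g⁻¹ ∈ (S : Subgroup G) := by
    intro r hr
    rw [← hS0] at hr
    have h8 : MulAut.conj g r ∈ (g • S0 : Sylow 13 G) := Subgroup.smul_mem_pointwise_smul _ (MulAut.conj g) (S0 : Subgroup G) hr
    rw [hg] at h8
    exact h8
  refine ⟨_, key a ha, _, key b hb, ?_⟩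
  intro h1
  apply hab
  calc a * b = g⁻¹ * ((g * a * g⁻¹) * (g * b * g⁻¹)) * g := by group
    _ = g⁻¹ * ((g * b * g⁻¹) * (g * a * g⁻¹)) * g := by rw [h1]
    _ = b * a := by group

/-- the elements of order 13 without 2B-involutions -/
theorem isConj_bad (h : D x z t Q) (hcu : Cu 13 R x) {a b : G} (ha : orderOf a = 13) (hb : orderOf b = 13)
    (hza : ¬ TB z a) (hzb : ¬ TB z b) (hra : ∀ k : ℕ, ¬ 13 ∣ k → IsConj a (a ^ k)) : IsConj a b := by
  obtain ⟨R', W', hr'⟩ := h.exists_RW (syl_na h hcu)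
  obtain ⟨k, hk⟩ := h.bad_conj' hr' ha hb hza hzb
  obtain ⟨j, hj⟩ := exists_nat_pow (y := a) k
  rw [← hj] at hk
  refine (hra j ?_).trans hk
  rintro ⟨l, rfl⟩
  rw [pow_mul, ← ha, pow_orderOf_eq_one, one_pow] at hk
  rw [isConj_one_right.1 hk, orderOf_one] at hb
  norm_num at hb

/-- the two classes -/
theorem classes (h : D x z t Q) (hcu : Cu 13 R x) {a : G} (ha : orderOf a = 13)
    (hza : ¬ TB z a) (hra : ∀ k : ℕ, ¬ 13 ∣ k → IsConj a (a ^ k)) (hrx : ∀ k : ℕ, ¬ 13 ∣ k → IsConj x (x ^ k))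
    (y : G) (hy : orderOf y = 13) : IsConj a y ∨ IsConj x y := by
  by_cases hb : TB z y
  · right
    obtain ⟨k, hk⟩ := h.tb_pow hy hb
    refine (hrx k ?_).trans hk.symm
    rintro ⟨l, rfl⟩
    rw [pow_mul, ← h.hyp.hx, pow_orderOf_eq_one, one_pow] at hk
    rw [isConj_one_left.1 hk, orderOf_one] at hy
    norm_num at hy
  · exact Or.inl (isConj_bad h hcu ha hy hza hb hra)

theorem tb_x (h : D x z t Q) : TB z x := by
  have := h.tb_of_pow (y := x) (k := 1) (by rw [zpow_one])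
  exact this

theorem not_conj (h : D x z t Q) {a : G} (hza : ¬ TB z a) : ¬ IsConj a x := fun hc => hza ((tb_x h).of_isConj hc.symm)

end

open Cfsg.Agent.H994.M23.Norm (Sp)

/-- the `13'`-elements commuting with `a` and `x` -/
theorem cent_two {G : Type} [Group G] [Finite G] {a x : G} {L : Subgroup G} (hS : Sp 13 a L)
    (e : L ≃* Matrix.SpecialLinearGroup (Fin 3) (ZMod 3)) (hxa : x * a = a * x) (hx : orderOf x = 13)
    (hn : x ∉ zpowers a) {n : G} (hna : n * a = a * n) (hnx : n * x = x * n) (h13 : ¬ 13 ∣ orderOf n) : n = 1 := by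
  have hp : Fact (Nat.Prime 13) := ⟨by norm_num⟩
  have hnL : n ∈ L := hS.reg_mem (mem_centralizer_singleton_iff.2 hna) h13
  obtain ⟨i, y, hy, hxy⟩ := hS.split x (mem_centralizer_singleton_iff.2 hxa)
  have hya : y * a = a * y := (hS.comm hy).symm.eq
  have hyx : y = (a ^ i)⁻¹ * x := by rw [hxy]; group
  have hcm : Commute (a ^ i) x := (show Commute a x from hxa.symm).pow_left i
  have hy13 : y ^ 13 = 1 := by
    rw [hyx, hcm.inv_left.mul_pow, inv_pow, ← pow_mul, mul_comm, pow_mul, ← hS.ord, pow_orderOf_eq_one, one_pow,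
      inv_one, one_mul, hS.ord, ← hx, pow_orderOf_eq_one]
  have hy1 : y ≠ 1 := by
    rintro rfl
    rw [mul_one] at hxy
    exact hn (hxy ▸ pow_mem (mem_zpowers a) i)
  have hyo : orderOf (⟨y, hy⟩ : L) = 13 := by
    rw [Subgroup.orderOf_mk]
    exact orderOf_eq_prime hy13 hy1
  have hny : n * y = y * n := by
    rw [hyx]
    have h1 : Commute n (a ^ i)⁻¹ := ((show Commute n a from hna).pow_right i).inv_right
    exact (h1.mul_right (show Commute n x from hnx)).eq
  have h1 := Cfsg.Agent.H266.M13.card_cent e hyo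
  have h2 : (⟨n, hnL⟩ : L) ∈ centralizer ({(⟨y, hy⟩ : L)} : Set L) :=
    mem_centralizer_singleton_iff.2 (Subtype.ext hny)
  have h3 := orderOf_dvd_natCard (⟨⟨n, hnL⟩, h2⟩ : centralizer ({(⟨y, hy⟩ : L)} : Set L))
  rw [h1, Subgroup.orderOf_mk, Subgroup.orderOf_mk] at h3
  rcases (Nat.dvd_prime (by norm_num)).1 h3 with h4 | h4
  · exact orderOf_eq_one_iff.1 h4
  · rw [h4] at h13
    exact absurd (dvd_refl 13) h13

end Cfsg.Agent.H657.M13
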