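import Cfsg.Agent.H657.M13.Simple
import Cfsg.Agent.H805.SymFour

/-!
# The double cover of `S₄` in which the transpositions lift to involutions is `GL(2,3)` (helper657)
-/

set_option autoImplicit false

namespace Cfsg.Agent.H657.M13

open Subgroup
open Cfsg.Agent.Characters.GL23 Cfsg.Agent.Characters.GL23Table

universe u

/-- The relations. -/
structure Rel {C : Type u} [Group C] (a b c z : C) : Prop where
  aa : a * a = 1
  bb : b * b = 1
  cc : c * c = 1
  zz : z * z = 1
  z1 : z ≠ 1
  ab : a * b * a = b * a * b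
  cb : c * b * c = b * c * b
  ac : a * c = z * (c * a)
  za : z * a = a * z
  zb : z * b = b * z
  zc : z * c = c * z

section

variable {C : Type u} [Group C] {a b c z : C}

theorem Rel.z_eq (h : Rel a b c z) : z = a * c * a * c := by
  have h1 : a * c * a * c = z * (c * a) * a * c := by rw [h.ac]
  rw [h1]
  calc z = z * (c * c) := by rw [h.cc, mul_one]
    _ = z * (c * (a * a) * c) := by rw [h.aa, mul_one]
    _ = _ := by group

theorem Rel.card_closure (h : Rel a b c z) : Nat.card (closure ({a, b, c} : Set C)) = 48 := by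
  classical
  set H : Subgroup C := closure ({a, b, c} : Set C) with hH
  have ha : a ∈ H := subset_closure (by simp)
  have hb : b ∈ H := subset_closure (by simp)
  have hc : c ∈ H := subset_closure (by simp)
  have hz : z ∈ H := by rw [h.z_eq]; exact mul_mem (mul_mem (mul_mem ha hc) ha) hc
  have hcen : ∀ x ∈ H, z * x = x * z := by
    intro x hx
    refine closure_induction (p := fun x _ => z * x = x * z) ?_ ?_ ?_ ?_ hx
    · rintro x (rfl | rfl | rfl)
      · exact h.za
      · exact h.zb
      · exact h.zc
    · rw [mul_one, one_mul]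
    · intro x y _ _ hx hy
      rw [← mul_assoc, hx, mul_assoc, hy, mul_assoc]
    · intro x _ hx
      exact (show Commute z x from hx).inv_right.eq
  let z' : H := ⟨z, hz⟩
  have hzo : orderOf z' = 2 := by
    have h1 : orderOf z = 2 := orderOf_eq_prime (by rw [pow_two]; exact h.zz) h.z1
    rw [← Subgroup.orderOf_coe]
    exact h1
  have hN : (zpowers z').Normal := by
    constructor
    intro n hn g
    obtain ⟨k, rfl⟩ := mem_zpowers_iff.1 hn
    have h1 : Commute z' g := Subtype.ext (hcen g g.2)
    have h2 : g * z' ^ k * g⁻¹ = z' ^ k := by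
      rw [mul_inv_eq_iff_eq_mul]
      exact (h1.zpow_left k).eq.symm
    rw [h2]
    exact hn
  let q := QuotientGroup.mk' (zpowers z')
  have hq : ∀ x : H, q x = 1 ↔ x = 1 ∨ x = z' := by
    intro x
    rw [QuotientGroup.mk'_apply, QuotientGroup.eq_one_iff]
    constructor
    · intro hx
      have hfo : IsOfFinOrder z' := by
        rw [← orderOf_pos_iff, hzo]; norm_num
      rw [hfo.mem_zpowers_iff_mem_range_orderOf, hzo] at hx
      simp only [Finset.mem_image, Finset.mem_range] at hx
      obtain ⟨i, hi, hix⟩ := hx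
      interval_cases i
      · left; rw [← hix, pow_zero]
      · right; rw [← hix, pow_one]
    · rintro (rfl | rfl)
      · exact one_mem _
      · exact mem_zpowers z'
  have hqz : q z' = 1 := (hq z').2 (Or.inr rfl)
  have h4 := H805.SymFour.permFour (a := q ⟨a, ha⟩) (b := q ⟨b, hb⟩) (c := q ⟨c, hc⟩)
    (by rw [← map_mul, ← map_one q]; exact congrArg q (Subtype.ext h.aa))
    (by rw [← map_mul, ← map_one q]; exact congrArg q (Subtype.ext h.bb))
    (by rw [← map_mul, ← map_one q]; exact congrArg q (Subtype.ext h.cc))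
    (by
      rw [← map_mul, ← map_mul]
      have h5 : (⟨a, ha⟩ : H) * ⟨c, hc⟩ = z' * (⟨c, hc⟩ * ⟨a, ha⟩) := Subtype.ext h.ac
      rw [h5, map_mul, hqz, one_mul])
    (by rw [← map_mul, ← map_mul, ← map_mul, ← map_mul]; exact congrArg q (Subtype.ext h.ab))
    (by rw [← map_mul, ← map_mul, ← map_mul, ← map_mul]; exact congrArg q (Subtype.ext h.cb))
    (by
      intro h5
      have h6 : q (⟨a, ha⟩ * (⟨c, hc⟩ : H)⁻¹) = 1 := by rw [map_mul, map_inv, h5, mul_inv_cancel]
      rcases (hq _).1 h6 with h7 | h7
      · have h8 : a * c⁻¹ = 1 := congrArg Subtype.val h7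
        have h9 : a = c := mul_inv_eq_one.1 h8
        apply h.z1
        rw [h.z_eq, h9]
        calc c * c * c * c = (c * c) * (c * c) := by group
          _ = 1 := by rw [h.cc, one_mul]
      · have h8 : a * c⁻¹ = z := congrArg Subtype.val h7
        have h9 : a = z * c := by rw [← h8]; group
        apply h.z1
        have h10 : a * c = z := by rw [h9, mul_assoc, h.cc, mul_one]
        have h11 : z * (c * a) = 1 := by
          rw [h9]
          calc z * (c * (z * c)) = z * (c * z) * c := by group
            _ = z * (z * c) * c := by rw [h.zc]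
            _ = (z * z) * (c * c) := by group
            _ = 1 := by rw [h.zz, h.cc, one_mul]
        rw [← h10, h.ac, h11])
  obtain ⟨e⟩ := h4
  have htop : closure ({q ⟨a, ha⟩, q ⟨b, hb⟩, q ⟨c, hc⟩} : Set (H ⧸ zpowers z')) = ⊤ := by
    have h5 : (closure ({(⟨a, ha⟩ : H), ⟨b, hb⟩, ⟨c, hc⟩} : Set H)) = ⊤ := by
      have h6 : ({(⟨a, ha⟩ : H), ⟨b, hb⟩, ⟨c, hc⟩} : Set H) = (Subtype.val : H → C) ⁻¹' ({a, b, c} : Set C) := by
        ext x
        simp only [Set.mem_insert_iff, Set.mem_singleton_iff, Set.mem_preimage, Subtype.ext_iff]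
      rw [h6]
      exact Subgroup.closure_closure_coe_preimage
    have h7 := MonoidHom.map_closure q ({(⟨a, ha⟩ : H), ⟨b, hb⟩, ⟨c, hc⟩} : Set H)
    rw [h5, Subgroup.map_top_of_surjective q (QuotientGroup.mk'_surjective _)] at h7
    rw [h7]
    congr 1
    simp only [Set.image_insert_eq, Set.image_singleton]
  have hcardq : Nat.card (H ⧸ zpowers z') = 24 := by
    rw [← Nat.card_congr (Subgroup.topEquiv (G := H ⧸ zpowers z')).toEquiv, ← htop, Nat.card_congr e.toEquiv,
      Nat.card_perm, Nat.card_fin]
    rfl
  rw [Subgroup.card_eq_card_quotient_mul_card_subgroup (zpowers z'), hcardq, Nat.card_zpowers, hzo]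

end

/-- the generators of the model -/
def mA : Grp := Matrix.GeneralLinearGroup.mkOfDetNeZero !![1, 0; 0, -1] (by rw [Matrix.det_fin_two]; decide)
def mB : Grp := Matrix.GeneralLinearGroup.mkOfDetNeZero !![1, 0; -1, -1] (by rw [Matrix.det_fin_two]; decide)
def mC : Grp := Matrix.GeneralLinearGroup.mkOfDetNeZero !![0, 1; 1, 0] (by rw [Matrix.det_fin_two]; decide)

theorem ent_mA : ent mA = (1, 0, 0, -1) := rfl
theorem ent_mB : ent mB = (1, 0, -1, -1) := rfl
theorem ent_mC : ent mC = (0, 1, 1, 0) := rfl

theorem model : Rel mA mB mC (-1 : Grp) := by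
  constructor
  · apply ent_injective; simp only [ent_mul, ent_one, ent_mA]; decide
  · apply ent_injective; simp only [ent_mul, ent_one, ent_mB]; decide
  · apply ent_injective; simp only [ent_mul, ent_one, ent_mC]; decide
  · apply ent_injective; simp only [ent_mul, ent_one, ent_neg_one]; decide
  · intro h
    have h1 := congrArg ent h
    rw [ent_one, ent_neg_one] at h1
    exact absurd h1 (by decide)
  · apply ent_injective; simp only [ent_mul, ent_mA, ent_mB]; decide
  · apply ent_injective; simp only [ent_mul, ent_mC, ent_mB]; decide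
  · apply ent_injective; simp only [ent_mul, ent_mA, ent_mC, ent_neg_one]; decide
  · apply ent_injective; simp only [ent_mul, ent_mA, ent_neg_one]; decide
  · apply ent_injective; simp only [ent_mul, ent_mB, ent_neg_one]; decide
  · apply ent_injective; simp only [ent_mul, ent_mC, ent_neg_one]; decide

theorem iso_of {X Y : Type*} [Group X] [Group Y] (f : X →* Y) (D : Subgroup X) (hD : Nat.card D = 48)
    (hf : Nat.card (D.map f) = 48) : Nonempty (D ≃* D.map f) := by
  have hs : Function.Surjective (f.subgroupMap D) := f.subgroupMap_surjective D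
  have hfin : Finite D := Nat.finite_of_card_ne_zero (by rw [hD]; norm_num)
  have hfinX : Finite (D.map f) := Nat.finite_of_card_ne_zero (by rw [hf]; norm_num)
  have hb : Function.Bijective (f.subgroupMap D) :=
    (Nat.bijective_iff_surjective_and_card _).2 ⟨hs, by rw [hD, hf]⟩
  exact ⟨MulEquiv.ofBijective _ hb⟩

theorem gl_of {C : Type u} [Group C] {a b c z : C} (h : Rel a b c z) :
    Nonempty (closure ({a, b, c} : Set C) ≃* Grp) := by
  have h' := model
  have hD : Rel ((a, mA) : C × Grp) (b, mB) (c, mC) (z, -1) := by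
    constructor
    · exact Prod.ext h.aa h'.aa
    · exact Prod.ext h.bb h'.bb
    · exact Prod.ext h.cc h'.cc
    · exact Prod.ext h.zz h'.zz
    · intro h1
      exact h.z1 (congrArg Prod.fst h1)
    · exact Prod.ext h.ab h'.ab
    · exact Prod.ext h.cb h'.cb
    · exact Prod.ext h.ac h'.ac
    · exact Prod.ext h.za h'.za
    · exact Prod.ext h.zb h'.zb
    · exact Prod.ext h.zc h'.zc
  have c1 := h.card_closure
  have c2 := h'.card_closure
  have c3 := hD.card_closure
  set D := closure ({(a, mA), (b, mB), (c, mC)} : Set (C × Grp)) with hDdef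
  have m1 : D.map (MonoidHom.fst C Grp) = closure ({a, b, c} : Set C) := by
    rw [hDdef, MonoidHom.map_closure]
    congr 1
    simp only [Set.image_insert_eq, Set.image_singleton, MonoidHom.coe_fst]
  have m2 : D.map (MonoidHom.snd C Grp) = Subgroup.closure ({mA, mB, mC} : Set Grp) := by
    rw [hDdef, MonoidHom.map_closure]
    congr 1
    simp only [Set.image_insert_eq, Set.image_singleton, MonoidHom.coe_snd]
  obtain ⟨e1⟩ := iso_of (MonoidHom.fst C Grp) D c3 (by rw [m1]; exact c1)
  obtain ⟨e2⟩ := iso_of (MonoidHom.snd C Grp) D c3 (by rw [m2]; exact c2)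
  rw [m1] at e1
  rw [m2] at e2
  have htop : Subgroup.closure ({mA, mB, mC} : Set Grp) = ⊤ := by
    have : Finite Grp := Nat.finite_of_card_ne_zero (by rw [card_grp]; norm_num)
    apply Subgroup.eq_top_of_card_eq
    rw [c2, card_grp]
  rw [htop] at e2
  exact ⟨e1.symm.trans (e2.trans Subgroup.topEquiv)⟩

end Cfsg.Agent.H657.M13
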