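import Cfsg.Agent.Characters.GL23Assembly
import Cfsg.Agent.S0197

/-!
# Groups in which every involution has the centralizer `GL(2,3)` (helper657, 13-section of the Monster)
-/

set_option autoImplicit false

namespace Cfsg.Agent.H657.M13

open Subgroup
open Cfsg.Agent.Characters.GL23 Cfsg.Agent.Characters.GL23Table

abbrev Quad := ZMod 3 × ZMod 3 × ZMod 3 × ZMod 3

/-- determinant not zero -/
def dn (m : Quad) : Bool := decide (m.1 * m.2.2.2 - m.2.1 * m.2.2.1 ≠ 0)

/-- the quadruples -/
def allQ : List Quad :=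
  ([0, 1, 2] : List (ZMod 3)).flatMap fun a => ([0, 1, 2] : List (ZMod 3)).flatMap fun b =>
    ([0, 1, 2] : List (ZMod 3)).flatMap fun c => ([0, 1, 2] : List (ZMod 3)).map fun d => (a, b, c, d)

theorem mem_allQ (m : Quad) : m ∈ allQ := by
  obtain ⟨a, b, c, d⟩ := m
  revert a b c d
  decide +kernel

/-- the invertible quadruples -/
def gl : List Quad := allQ.filter dn

theorem mem_gl (g : Grp) : ent g ∈ gl := by
  unfold gl
  rw [List.mem_filter]
  exact ⟨mem_allQ _, by unfold dn; rw [decide_eq_true_eq]; exact det_ne g⟩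

theorem exists_of_mem {m : Quad} (h : m ∈ gl) : ∃ g : Grp, ent g = m := by
  unfold gl at h
  rw [List.mem_filter] at h
  have h1 := h.2
  unfold dn at h1
  rw [decide_eq_true_eq] at h1
  refine ⟨Matrix.GeneralLinearGroup.mkOfDetNeZero !![m.1, m.2.1; m.2.2.1, m.2.2.2]
    (by rw [Matrix.det_fin_two]; exact h1), rfl⟩

def oneQ : Quad := (1, 0, 0, 1)

theorem chk3 : gl.all (fun m => (mul4 (mul4 m m) m != oneQ || m == oneQ) ||
    gl.any (fun n => mul4 n m != mul4 m n && mul4 n m != mul4 (mul4 m m) n)) = true := by decide +kernel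

/-- the involutions and 1 -/
def inv1 : List Quad := gl.filter fun m => mul4 m m == oneQ

theorem chkI : gl.all (fun m => inv1.any fun a => inv1.any fun b => inv1.any fun c => mul4 a (mul4 b c) == m) = true := by
  decide +kernel

theorem card_grp : Nat.card Grp = 48 := Cfsg.Agent.Characters.GL23.natCard_Grp

theorem normal_odd (N : Subgroup Grp) [hN : N.Normal] (ho : ¬ 2 ∣ Nat.card N) : N = ⊥ := by
  by_contra hne
  have hd : Nat.card N ∣ 48 := card_grp ▸ Subgroup.card_subgroup_dvd_card N
  have h3 : Nat.card N ∣ 3 := by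
    have h1 : Nat.Coprime (Nat.card N) 16 := by
      rw [Nat.coprime_comm, show (16 : ℕ) = 2 ^ 4 by norm_num]
      exact Nat.Coprime.pow_left 4 ((Nat.Prime.coprime_iff_not_dvd Nat.prime_two).2 ho)
    exact h1.dvd_of_dvd_mul_left (by norm_num; exact hd)
  obtain ⟨g, hg, hg1⟩ : ∃ g ∈ N, g ≠ 1 := by
    obtain ⟨g, hg⟩ := Subgroup.ne_bot_iff_exists_ne_one.1 hne
    exact ⟨g, g.2, fun h => hg (Subtype.ext h)⟩
  have hcard : Nat.card N = 3 := by
    rcases (Nat.dvd_prime Nat.prime_three).1 h3 with h | h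
    · exact absurd (Subgroup.card_eq_one.1 h) hne
    · exact h
  have hg3 : g ^ 3 = 1 := by
    have h1 := pow_card_eq_one' (x := (⟨g, hg⟩ : N))
    rw [hcard] at h1
    exact congrArg Subtype.val h1
  have hall : ∀ x ∈ N, x = 1 ∨ x = g ∨ x = g * g := by
    intro x hx
    have hord : orderOf (⟨g, hg⟩ : N) = 3 := by
      have : Fact (Nat.Prime 3) := ⟨Nat.prime_three⟩
      exact orderOf_eq_prime (Subtype.ext hg3) (fun h => hg1 (congrArg Subtype.val h))
    have htop : zpowers (⟨g, hg⟩ : N) = ⊤ := by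
      apply Subgroup.eq_top_of_card_eq
      rw [Nat.card_zpowers, hord, hcard]
    have hx' : (⟨x, hx⟩ : N) ∈ zpowers (⟨g, hg⟩ : N) := by rw [htop]; exact mem_top _
    have : Finite N := Nat.finite_of_card_ne_zero (by rw [hcard]; norm_num)
    rw [mem_zpowers_iff_mem_range_orderOf, hord] at hx'
    simp only [Finset.mem_image, Finset.mem_range] at hx'
    obtain ⟨i, hi, hix⟩ := hx'
    have hix' : g ^ i = x := congrArg Subtype.val hix
    interval_cases i
    · left; rw [← hix', pow_zero]
    · right; left; rw [← hix', pow_one]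
    · right; right; rw [← hix', pow_two]
  have h1 := List.all_eq_true.1 chk3 (ent g) (mem_gl g)
  rw [Bool.or_eq_true] at h1
  rcases h1 with h1 | h1
  · rw [Bool.or_eq_true] at h1
    rcases h1 with h1 | h1
    · rw [bne_iff_ne] at h1
      apply h1
      rw [← ent_mul, ← ent_mul]
      have : g * g * g = 1 := by rw [← hg3]; simp only [pow_succ, pow_zero, one_mul]
      rw [this]
      exact ent_one
    · apply hg1
      apply ent_injective
      rw [ent_one]
      exact eq_of_beq h1
  · rw [List.any_eq_true] at h1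
    obtain ⟨n, hn, h2⟩ := h1
    obtain ⟨k, rfl⟩ := exists_of_mem hn
    rw [Bool.and_eq_true, bne_iff_ne, bne_iff_ne, ← ent_mul, ← ent_mul, ← ent_mul, ← ent_mul] at h2
    obtain ⟨h2, h3⟩ := h2
    rcases hall _ (hN.conj_mem g hg k) with h4 | h4 | h4
    · apply hg1
      calc g = k⁻¹ * (k * g * k⁻¹) * k := by group
        _ = 1 := by rw [h4]; group
    · apply h2
      congr 1
      calc k * g = (k * g * k⁻¹) * k := by group
        _ = g * k := by rw [h4]
    · apply h3
      congr 1
      calc k * g = (k * g * k⁻¹) * k := by group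
        _ = g * g * k := by rw [h4]

theorem eq_top_of_inv (N : Subgroup Grp) (h : ∀ g : Grp, g * g = 1 → g ∈ N) : N = ⊤ := by
  rw [eq_top_iff]
  intro g _
  have h1 := List.all_eq_true.1 chkI (ent g) (mem_gl g)
  simp only [List.any_eq_true] at h1
  obtain ⟨a, ha, b, hb, c, hc, h2⟩ := h1
  have key : ∀ {m : Quad}, m ∈ inv1 → ∃ k : Grp, ent k = m ∧ k ∈ N := by
    intro m hm
    unfold inv1 at hm
    rw [List.mem_filter] at hm
    obtain ⟨k, rfl⟩ := exists_of_mem hm.1
    refine ⟨k, rfl, h k (ent_injective ?_)⟩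
    rw [ent_mul, ent_one]
    exact eq_of_beq hm.2
  obtain ⟨x, rfl, hx⟩ := key ha
  obtain ⟨y, rfl, hy⟩ := key hb
  obtain ⟨z, rfl, hz⟩ := key hc
  have h3 := eq_of_beq h2
  rw [← ent_mul, ← ent_mul] at h3
  rw [← ent_injective h3]
  exact mul_mem hx (mul_mem hy hz)

/-- an involution different from `-1` -/
theorem exists_refl : ∃ r : Grp, r * r = 1 ∧ r ≠ 1 ∧ r ≠ -1 := by
  refine ⟨Matrix.GeneralLinearGroup.mkOfDetNeZero !![1, 0; 0, -1] (by rw [Matrix.det_fin_two]; decide), ?_, ?_, ?_⟩
  · apply ent_injective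
    rw [ent_mul, ent_one]
    change mul4 (1, 0, 0, -1) (1, 0, 0, -1) = _
    decide
  · intro h
    have h1 := congrArg ent h
    rw [ent_one] at h1
    change ((1, 0, 0, -1) : Quad) = _ at h1
    exact absurd h1 (by decide)
  · intro h
    have h1 := congrArg ent h
    rw [ent_neg_one] at h1
    change ((1, 0, 0, -1) : Quad) = _ at h1
    exact absurd h1 (by decide)

end Cfsg.Agent.H657.M13
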