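import Cfsg.Agent.H657.M13.Facts
import Cfsg.Agent.H994.M23.Sec13f
import Cfsg.Agent.H994.M23.SecFin
import Cfsg.Agent.H266.M13.Syl
import Cfsg.Agent.H30.OZ.Bad

/-!
# `Out13` (helper657)
-/

set_option autoImplicit false
set_option maxRecDepth 100000

namespace Cfsg.Agent.H657.M13

open Subgroup Cfsg
open Cfsg.Agent.H994.M23.Norm (Sp Sc sm)
open Cfsg.Agent.H994.M23.Fin (Out13)
open Cfsg.Agent.H994.M23.Sec13f (Core sec13)
open Cfsg.Agent.H924.M23 (Sec13)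

theorem Fct.out {G : Type} [Group G] [Fintype G] {a x t : G} {L R : Subgroup G} (F : Fct a x t L R) (HC : Core)
    (X : IrrCharacter G) {d b : ℤ} (hd : (X : G → ℂ) 1 = d) (hb : (X : G → ℂ) t = b) :
    Out13 (X : G → ℂ) d b := by
  have h13 : Fact (Nat.Prime 13) := ⟨by norm_num⟩
  obtain ⟨e⟩ := F.iso
  obtain ⟨xa, n, hxa, halt, hn⟩ := sec13 HC F.sp e F.ra F.ot F.iv X hd hb
  obtain ⟨zz, hzz⟩ := H30.OZ.exists_int_val (y := x) (fun k hk => F.rx k (by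
    intro h1
    have h2 : 13 ∣ Nat.card G := by rw [← F.ox]; exact orderOf_dvd_natCard x
    have h3 := Nat.dvd_gcd h1 h2
    rw [hk.gcd_eq_one] at h3
    norm_num at h3)) X
  obtain ⟨h1, h2⟩ := H266.M13.congr13 F.sp.ord F.ox F.ca F.sa F.cx F.cR F.Rx F.nR F.na F.ex F.h4 F.ra F.rx F.ax F.cl
    (Cfsg.Agent.Characters.Core.isIrr_isCharacter X.2) hd hxa hzz
  exact ⟨a, x, n, zz, F.sp.ord, F.ox, F.ax, F.cx, hzz, ⟨h1, xa, h2, halt⟩, hn⟩

end Cfsg.Agent.H657.M13
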