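import Cfsg.Agent.H657.M13.OutM
import Cfsg.Agent.H599.M23.L33

/-!
# `Out13` for the Monster, without hypotheses (helper657, with helper599, helper994, helper266, helper792)
-/

set_option autoImplicit false

namespace Cfsg.Agent.H657.M13

open Subgroup Cfsg
open Cfsg.Agent.H994.M23.Fin (Out13)
open Cfsg.Agent.H994.M23.Sec13f (Core)
open Cfsg.Agent.H241.Mon
open Cfsg.Agent.H691.M23 (Five RV SecFacts)

theorem core : Core := by
  intro L _ _ e f hf hint
  obtain ⟨a1, a2, a3, b1, b2, b4, s, h1, h2, h3, h4⟩ := Cfsg.Agent.H599.M23.L33.core e f hf hint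
  refine ⟨a1, a2, a3, b1, b2, b4, s, ?_, ?_, h3, h4⟩
  · rw [h1]; push_cast; ring
  · intro t ht
    rw [h2 t ht]; push_cast; ring

/-- **`Out13`**, the form for `H436.M23.Final.secFacts` -/
theorem out13_fin [Fintype Gam] {u : Gam} {C T : Subgroup Gam} {θ : T → ℂ} {t y : T}
    (F : Five u C T θ t y) (X : IrrCharacter Gam) {d b : ℤ} (hr : RV X) (hd : (X : Gam → ℂ) 1 = d)
    (hb : (X : Gam → ℂ) t = b) : Out13 (X : Gam → ℂ) d b :=
  out13_five core F X hr hd hb

end Cfsg.Agent.H657.M13
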