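import Cfsg.Agent.H657.M13.Out
import Cfsg.Agent.H241.NHMonA
import Cfsg.Agent.H691.M23.Choice

/-!
# `Out13` for the Monster (helper657)
-/

set_option autoImplicit false
set_option maxRecDepth 100000
set_option linter.unusedSectionVars false

namespace Cfsg.Agent.H657.M13

open Subgroup Cfsg
open Cfsg.Agent.H131.T5M13 (D TB)
open Cfsg.Agent.H994.M23.Fin (Out13)
open Cfsg.Agent.H994.M23.Sec13f (Core sec13)
open Cfsg.Agent.H241.Mon
open Cfsg.Agent.LThreeMB (fr KChart.Cent KChart.pi KChart.chart)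
open Cfsg.Agent.MonsterU Cfsg.Agent.MonsterU.Ch
open Cfsg.Agent.MonsterU.Lam2 (L2)
open Cfsg.Agent.MonsterX Cfsg.Agent.MonsterX.MainPack
open Cfsg.Agent.LThreeB.Row (TA)
open Cfsg.Agent.H691.M23 (Five RV SecFacts)

/-- 2A by the order of the centralizer -/
theorem ta_of_card {t : Gam} (ht : orderOf t = 2)
    (hc : Nat.card ↥(centralizer ({t} : Set Gam)) = 8309562962452852382355161088000000) : TA t := by
  have hfin := MFive.Row.finite_model
  have hc' := MFive.Row.hc
  have h := KChart.chart KDone.lft hc'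
  obtain ⟨x, Q, hD⟩ := exists_D
  rcases hD.cls t ht with h1 | h1
  · exfalso
    have h2 : Nat.card ↥(centralizer ({(KDone.K.z : Gam)} : Set Gam)) = Nat.card ↥(centralizer ({t} : Set Gam)) := by
      obtain ⟨g, hg⟩ := isConj_iff.1 h1
      rw [← hg]
      have h3 : (centralizer ({(KDone.K.z : Gam)} : Set Gam)).map (MulAut.conj g).toMonoidHom =
          centralizer ({g * (KDone.K.z : Gam) * g⁻¹} : Set Gam) := by
        ext y
        rw [mem_map, mem_centralizer_singleton_iff]
        constructor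
        · rintro ⟨w, hw, rfl⟩
          have hw' := mem_centralizer_singleton_iff.1 hw
          show g * w * g⁻¹ * (g * KDone.K.z * g⁻¹) = g * KDone.K.z * g⁻¹ * (g * w * g⁻¹)
          calc g * w * g⁻¹ * (g * KDone.K.z * g⁻¹) = g * (w * KDone.K.z) * g⁻¹ := by group
            _ = g * (KDone.K.z * w) * g⁻¹ := by rw [hw']
            _ = _ := by group
        · intro hy
          refine ⟨g⁻¹ * y * g, mem_centralizer_singleton_iff.2 ?_, by show g * (g⁻¹ * y * g) * g⁻¹ = y; group⟩
          calc g⁻¹ * y * g * KDone.K.z = g⁻¹ * (y * (g * KDone.K.z * g⁻¹)) * g := by group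
            _ = g⁻¹ * (g * KDone.K.z * g⁻¹ * y) * g := by rw [hy]
            _ = _ := by group
      rw [← h3, Subgroup.card_map_of_injective (MulAut.conj g).injective]
    have h3 := BpRankZero.Seven.card_cz h
    rw [CoFrameF.card_Co1] at h3
    have h4 : 31 ∣ Nat.card ↥(centralizer ({(KDone.K.z : Gam)} : Set Gam)) := by
      rw [h2, hc]
      norm_num
    have h5 := h4.trans h3
    norm_num at h5
  · exact h1

/-- **`Out13`** from helper599's `Core`. -/
theorem out13 (HC : Core) [Fintype Gam] {t : Gam} (ht : orderOf t = 2)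
    (hc : Nat.card ↥(centralizer ({t} : Set Gam)) = 8309562962452852382355161088000000)
    (X : IrrCharacter Gam) {d b : ℤ} (hd : (X : Gam → ℂ) 1 = d) (hb : (X : Gam → ℂ) t = b) :
    Out13 (X : Gam → ℂ) d b := by
  obtain ⟨a, x, L, R, F⟩ := facts (ta_of_card ht hc)
  exact F.out HC X hd hb

/-- the form for `H436.M23.Final.secFacts` -/
theorem out13_five (HC : Core) [Fintype Gam] {u : Gam} {C T : Subgroup Gam} {θ : T → ℂ} {t y : T}
    (F : Five u C T θ t y) (X : IrrCharacter Gam) {d b : ℤ} (_ : RV X) (hd : (X : Gam → ℂ) 1 = d)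
    (hb : (X : Gam → ℂ) t = b) : Out13 (X : Gam → ℂ) d b :=
  out13 HC (by rw [Subgroup.orderOf_coe, F.ot]) F.ct X hd hb

end Cfsg.Agent.H657.M13
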