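import Cfsg.Agent.H657.M13.OutFin
import Cfsg.Agent.H436.M23.Final

/-!
# `SecFacts` for the Monster, from `Five` only (helper657)
-/

set_option autoImplicit false

namespace Cfsg.Agent.H657.M13

open Subgroup Cfsg
open Cfsg.Agent.H241.Mon
open Cfsg.Agent.H691.M23 (Five RV SecFacts)

/-- **`SecFacts`** -/
theorem secFacts [Fintype Gam] {u : Gam} {C T : Subgroup Gam} [Fintype T] {θ : T → ℂ} {t y : T}
    (F : Five u C T θ t y) : SecFacts u T θ t :=
  H436.M23.Final.secFacts F fun X _ _ hr hd hb => out13_fin F X hr hd hb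

end Cfsg.Agent.H657.M13
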