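import Cfsg.Agent.H657.M13.GL
import Cfsg.Agent.CpAutJ4.Isol

/-!
# A group in which every involution has the centralizer `GL(2,3)` is simple (helper657)
-/

set_option autoImplicit false

namespace Cfsg.Agent.H657.M13

open Subgroup
open Cfsg.Agent.Characters.GL23 Cfsg.Agent.Characters.GL23Table

universe u

variable {L : Type u} [Group L] [Finite L]

/-- an involution inverting the odd normal subgroup -/
theorem inverts_of {N : Subgroup L} [hN : N.Normal] {u : L} (hu : orderOf u = 2)
    (hf : ∀ n ∈ N, u * n = n * u → n = 1) : ∀ n ∈ N, u * n * u⁻¹ = n⁻¹ := by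
  have huu : u * u = 1 := by rw [← pow_two, ← hu, pow_orderOf_eq_one]
  have hui : u⁻¹ = u := inv_eq_of_mul_eq_one_left huu
  let φ : N →* N :=
    { toFun := fun n => ⟨u * n * u⁻¹, hN.conj_mem n n.2 u⟩
      map_one' := Subtype.ext (by simp)
      map_mul' := fun a b => Subtype.ext (by
        change u * ((a : L) * b) * u⁻¹ = u * a * u⁻¹ * (u * b * u⁻¹)
        group) }
  have hφ : MonoidHom.FixedPointFree φ := by
    intro n hn
    apply Subtype.ext
    refine hf n n.2 ?_
    have h1 : u * (n : L) * u⁻¹ = n := congrArg Subtype.val hn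
    exact mul_inv_eq_iff_eq_mul.1 h1
  have h2 : φ^[2] = id := by
    funext n
    apply Subtype.ext
    change u * (u * (n : L) * u⁻¹) * u⁻¹ = n
    rw [hui]
    calc u * (u * (n : L) * u) * u = (u * u) * n * (u * u) := by group
      _ = n := by rw [huu]; group
  have h3 := hφ.coe_eq_inv_of_sq_eq_one h2
  intro n hn
  have h4 := congrFun h3 ⟨n, hn⟩
  exact congrArg Subtype.val h4

section

variable (h : ∀ u : L, orderOf u = 2 → Nonempty (centralizer ({u} : Set L) ≃* Grp))

include h in
/-- no normal subgroup of odd order -/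
theorem odd_bot {u : L} (hu : orderOf u = 2) (N : Subgroup L) [hN : N.Normal] (ho : ¬ 2 ∣ Nat.card N) : N = ⊥ := by
  -- fixed points
  have hfix : ∀ v : L, orderOf v = 2 → ∀ n ∈ N, v * n = n * v → n = 1 := by
    intro v hv n hn hvn
    obtain ⟨e⟩ := h v hv
    let N' : Subgroup Grp := (N.subgroupOf (centralizer ({v} : Set L))).map e.toMonoidHom
    have h1 : N'.Normal := Subgroup.Normal.map (inferInstance) _ e.surjective
    have h2 : ¬ 2 ∣ Nat.card N' := by
      intro h3
      apply ho
      have h4 : Nat.card N' = Nat.card (N.subgroupOf (centralizer ({v} : Set L))) :=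
        Subgroup.card_map_of_injective e.injective
      rw [h4] at h3
      refine h3.trans ?_
      rw [← Subgroup.inf_subgroupOf_right]
      rw [Nat.card_congr (Subgroup.subgroupOfEquivOfLe (inf_le_right : N ⊓ centralizer ({v} : Set L) ≤ _)).toEquiv]
      exact Subgroup.card_dvd_of_le inf_le_left
    have h5 := normal_odd N' h2
    have hnc : n ∈ centralizer ({v} : Set L) := mem_centralizer_singleton_iff.2 hvn.symm
    have h6 : e ⟨n, hnc⟩ ∈ N' := ⟨⟨n, hnc⟩, hn, rfl⟩
    rw [h5, Subgroup.mem_bot] at h6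
    have h7 : (⟨n, hnc⟩ : centralizer ({v} : Set L)) = 1 := by
      apply e.injective
      rw [h6, map_one]
    exact congrArg Subtype.val h7
  -- a four-group
  obtain ⟨e⟩ := h u hu
  obtain ⟨r, hrr, hr1, hrm⟩ := exists_refl
  have hum : e ⟨u, mem_centralizer_singleton_iff.2 rfl⟩ = -1 := by
    apply eq_neg_one_of_central
    · rw [MulEquiv.orderOf_eq, Subgroup.orderOf_mk, hu]
    · intro x
      obtain ⟨y, rfl⟩ := e.surjective x
      rw [← map_mul, ← map_mul]
      congr 1
      exact Subtype.ext (mem_centralizer_singleton_iff.1 y.2).symm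
  obtain ⟨s, hs⟩ := e.surjective r
  have hss : (s : L) * s = 1 := by
    have : s * s = 1 := by
      apply e.injective
      rw [map_mul, hs, hrr, map_one]
    exact congrArg Subtype.val this
  have hs1 : (s : L) ≠ 1 := by
    intro h1
    apply hr1
    have : s = 1 := Subtype.ext h1
    rw [← hs, this, map_one]
  have hsu : (s : L) ≠ u := by
    intro h1
    apply hrm
    have : s = ⟨u, mem_centralizer_singleton_iff.2 rfl⟩ := Subtype.ext h1
    rw [← hs, this, hum]
  have hcomm : (s : L) * u = u * s := mem_centralizer_singleton_iff.1 s.2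
  have h2 : ∀ {x : L}, x * x = 1 → x ≠ 1 → orderOf x = 2 := fun {x} hx hx1 =>
    orderOf_eq_prime (by rw [pow_two]; exact hx) hx1
  have huu : u * u = 1 := by rw [← pow_two, ← hu, pow_orderOf_eq_one]
  have hos := h2 hss hs1
  have hous : orderOf (u * s) = 2 := by
    apply h2
    · calc u * s * (u * s) = u * (s * u) * s := by group
        _ = u * (u * s) * s := by rw [hcomm]
        _ = (u * u) * (s * s) := by group
        _ = 1 := by rw [huu, hss, one_mul]
    · intro h3
      apply hsu
      calc (s : L) = u * (u * s) := by rw [← mul_assoc, huu, one_mul]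
        _ = u := by rw [h3, mul_one]
  have i1 := inverts_of hu (fun n hn => hfix u hu n hn)
  have i2 := inverts_of hos (fun n hn => hfix _ hos n hn)
  have i3 := inverts_of hous (fun n hn => hfix _ hous n hn)
  rw [Subgroup.eq_bot_iff_forall]
  intro n hn
  have e1 := i3 n hn
  have e2 : u * s * n * (u * s)⁻¹ = n := by
    calc u * s * n * (u * s)⁻¹ = u * (s * n * (s : L)⁻¹) * u⁻¹ := by group
      _ = u * n⁻¹ * u⁻¹ := by rw [i2 n hn]
      _ = (u * n * u⁻¹)⁻¹ := by group
      _ = n := by rw [i1 n hn, inv_inv]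
  rw [e2] at e1
  -- `n = n⁻¹`
  have e3 : n * n = 1 := by
    nth_rewrite 2 [e1]
    exact mul_inv_cancel n
  by_contra hn1
  apply ho
  rw [← h2 e3 hn1]
  have := Subgroup.orderOf_mk n hn
  rw [← this]
  exact orderOf_dvd_natCard _

include h in
theorem card_syl {u : L} (hu : orderOf u = 2) (S : Sylow 2 L) : Nat.card S = 16 := by
  have h2 : Fact (Nat.Prime 2) := ⟨Nat.prime_two⟩
  -- `16` divides `|L|`
  have h16 : 2 ^ 4 ∣ Nat.card L := by
    obtain ⟨e⟩ := h u hu
    have h1 : Nat.card (centralizer ({u} : Set L)) = 48 := by rw [Nat.card_congr e.toEquiv, card_grp]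
    have h3 : 16 ∣ Nat.card (centralizer ({u} : Set L)) := by rw [h1]; norm_num
    exact h3.trans (Subgroup.card_subgroup_dvd_card _)
  have hdvd : 2 ^ 4 ∣ Nat.card S := S.pow_dvd_card_of_pow_dvd_card h16
  have hnt : Nontrivial S := by
    rw [← Finite.one_lt_card_iff_nontrivial]
    exact lt_of_lt_of_le (by norm_num) (Nat.le_of_dvd Nat.card_pos hdvd)
  obtain ⟨w, hw, hwo⟩ := Cfsg.Agent.CpAutJ4.exists_central_involution S.2
  have hwo' : orderOf (w : L) = 2 := by rw [Subgroup.orderOf_coe, hwo]
  obtain ⟨e⟩ := h w hwo'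
  have hle : (S : Subgroup L) ≤ centralizer ({(w : L)} : Set L) := by
    intro s hs
    rw [mem_centralizer_singleton_iff]
    exact congrArg Subtype.val (mem_center_iff.1 hw ⟨s, hs⟩)
  have h48 : Nat.card S ∣ 48 := by
    rw [← card_grp, ← Nat.card_congr e.toEquiv]
    exact Subgroup.card_dvd_of_le hle
  obtain ⟨n, hn⟩ := IsPGroup.iff_card.1 S.2
  rw [hn] at h48 hdvd ⊢
  have h5 : 4 ≤ n := (Nat.pow_dvd_pow_iff_le_right (by norm_num : 1 < 2)).1 hdvd
  have h6 : n < 5 := by
    by_contra h7
    have h8 : 2 ^ 5 ∣ 48 := (pow_dvd_pow 2 (by omega)).trans h48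
    norm_num at h8
  have : n = 4 := by omega
  rw [this]
  norm_num

include h in
/-- a 2-central involution of `C(u)` commuting with a Sylow subgroup of `C(u)` is `u` -/
theorem eq_of_central {u w : L} (hu : orderOf u = 2) (hw : orderOf w = 2) {S : Sylow 2 L}
    (hSu : (S : Subgroup L) ≤ centralizer ({u} : Set L)) (hSw : (S : Subgroup L) ≤ centralizer ({w} : Set L))
    (hwS : w ∈ (S : Subgroup L)) : w = u := by
  obtain ⟨e⟩ := h u hu
  by_contra hne
  have hwu : w ∈ centralizer ({u} : Set L) := hSu hwS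
  have hm : e ⟨w, hwu⟩ ≠ -1 := by
    intro h1
    apply hne
    have hum : e ⟨u, mem_centralizer_singleton_iff.2 rfl⟩ = -1 := by
      apply eq_neg_one_of_central
      · rw [MulEquiv.orderOf_eq, Subgroup.orderOf_mk, hu]
      · intro x
        obtain ⟨y, rfl⟩ := e.surjective x
        rw [← map_mul, ← map_mul]
        congr 1
        exact Subtype.ext (mem_centralizer_singleton_iff.1 y.2).symm
    exact congrArg Subtype.val (e.injective (h1.trans hum.symm))
  have h4 := card_centralizer_inv (e ⟨w, hwu⟩) (by rw [MulEquiv.orderOf_eq, Subgroup.orderOf_mk, hw]) hm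
  have h5 : Nat.card S ≤ Nat.card {x : Grp // e ⟨w, hwu⟩ * x = x * e ⟨w, hwu⟩} := by
    have hfin : Finite {x : Grp // e ⟨w, hwu⟩ * x = x * e ⟨w, hwu⟩} := by
      have : Finite Grp := Finite.of_equiv _ e.toEquiv
      infer_instance
    refine Nat.card_le_card_of_injective (fun s : S => (⟨e ⟨(s : L), hSu s.2⟩, ?_⟩ :
      {x : Grp // e ⟨w, hwu⟩ * x = x * e ⟨w, hwu⟩})) ?_
    · rw [← map_mul, ← map_mul]
      congr 1
      exact Subtype.ext (mem_centralizer_singleton_iff.1 (hSw s.2)).symm
    · intro a b hab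
      have h6 := congrArg Subtype.val hab
      have h7 := congrArg (fun z : centralizer ({u} : Set L) => (z : L)) (e.injective h6)
      exact Subtype.ext h7
  rw [card_syl h hu S, h4] at h5
  norm_num at h5

include h in
theorem exists_syl_le {u : L} (hu : orderOf u = 2) : ∃ S : Sylow 2 L, (S : Subgroup L) ≤ centralizer ({u} : Set L) ∧
    u ∈ (S : Subgroup L) := by
  have h2 : Fact (Nat.Prime 2) := ⟨Nat.prime_two⟩
  obtain ⟨T⟩ : Nonempty (Sylow 2 (centralizer ({u} : Set L))) := inferInstance
  let T' : Subgroup L := (T : Subgroup (centralizer ({u} : Set L))).map (centralizer ({u} : Set L)).subtype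
  have hT' : IsPGroup 2 T' := T.2.map _
  obtain ⟨S, hS⟩ := hT'.exists_le_sylow
  have hcard : Nat.card T' = 16 := by
    have h1 : Nat.card T' = Nat.card T := Subgroup.card_map_of_injective (Subgroup.subtype_injective _)
    rw [h1, T.card_eq_multiplicity]
    obtain ⟨e⟩ := h u hu
    rw [Nat.card_congr e.toEquiv, card_grp, show (48 : ℕ) = 2 ^ 4 * 3 by norm_num,
      Nat.factorization_mul (by norm_num) (by norm_num), Nat.Prime.factorization_pow Nat.prime_two,
      Nat.Prime.factorization Nat.prime_three]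
    simp
  have hSeq : T' = S := Subgroup.eq_of_le_of_card_ge hS (by rw [hcard, card_syl h hu S])
  have hle : (S : Subgroup L) ≤ centralizer ({u} : Set L) := by
    rw [← hSeq]
    rintro _ ⟨x, -, rfl⟩
    exact x.2
  refine ⟨S, hle, ?_⟩
  -- `u` is in every Sylow subgroup of its centralizer
  have h7 : IsPGroup 2 ↥((S : Subgroup L) ⊔ zpowers u) := by
    have hnorm : (S : Subgroup L) ≤ normalizer ((zpowers u : Subgroup L) : Set L) := by
      refine hle.trans ?_
      intro c hc
      have hc' : c * u = u * c := mem_centralizer_singleton_iff.1 hc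
      have hcu : ∀ x ∈ zpowers u, c * x * c⁻¹ = x := by
        intro x hx
        obtain ⟨k, rfl⟩ := mem_zpowers_iff.1 hx
        rw [mul_inv_eq_iff_eq_mul]
        exact ((show Commute c u from hc').zpow_right k).eq
      rw [mem_normalizer_iff]
      intro x
      constructor
      · intro hx; rw [hcu x hx]; exact hx
      · intro hx
        have h8 := hcu _ hx
        have h9 : c * x * c⁻¹ = x := by
          have : c⁻¹ * (c * (c * x * c⁻¹) * c⁻¹) * c = c⁻¹ * (c * x * c⁻¹) * c := by rw [h8]
          calc c * x * c⁻¹ = c⁻¹ * (c * (c * x * c⁻¹) * c⁻¹) * c := by group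
            _ = c⁻¹ * (c * x * c⁻¹) * c := this
            _ = x := by group
        rwa [h9] at hx
    refine IsPGroup.to_sup_of_normal_right' S.2 (IsPGroup.of_card (n := 1) (by rw [Nat.card_zpowers, hu, pow_one])) hnorm
  have h8 := S.3 h7 le_sup_left
  rw [← h8]
  exact mem_sup_right (mem_zpowers u)

include h in
/-- all involutions are conjugate -/
theorem isConj_inv {u w : L} (hu : orderOf u = 2) (hw : orderOf w = 2) : ∃ g : L, g * w * g⁻¹ = u := by
  have h2 : Fact (Nat.Prime 2) := ⟨Nat.prime_two⟩
  obtain ⟨S, hS, -⟩ := exists_syl_le h hu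
  obtain ⟨T, hT, hwT⟩ := exists_syl_le h hw
  obtain ⟨g, hg⟩ := MulAction.exists_smul_eq L T S
  have hmem : ∀ x, x ∈ (T : Subgroup L) → g * x * g⁻¹ ∈ (S : Subgroup L) := by
    intro x hx
    rw [← hg]
    exact Subgroup.smul_mem_pointwise_smul x (MulAut.conj g) (T : Subgroup L) hx
  have hmem' : ∀ x, x ∈ (S : Subgroup L) → g⁻¹ * x * g ∈ (T : Subgroup L) := by
    intro x hx
    rw [← hg] at hx
    obtain ⟨y, hy, rfl⟩ := hx
    change g⁻¹ * (g * y * g⁻¹) * g ∈ _
    have : g⁻¹ * (g * y * g⁻¹) * g = y := by group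
    rw [this]; exact hy
  refine ⟨g, eq_of_central h hu (w := g * w * g⁻¹) ?_ hS ?_ (hmem w hwT)⟩
  · have := MulEquiv.orderOf_eq (MulAut.conj g) w
    rw [MulAut.conj_apply] at this
    rw [this, hw]
  · intro x hx
    rw [mem_centralizer_singleton_iff]
    have h3 := mem_centralizer_singleton_iff.1 (hT (hmem' x hx))
    calc x * (g * w * g⁻¹) = g * ((g⁻¹ * x * g) * w) * g⁻¹ := by group
      _ = g * (w * (g⁻¹ * x * g)) * g⁻¹ := by rw [h3]
      _ = g * w * g⁻¹ * x := by group

include h in
/-- **The group is simple.** -/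
theorem simple_of {u : L} (hu : orderOf u = 2) : IsSimpleGroup L := by
  have h2 : Fact (Nat.Prime 2) := ⟨Nat.prime_two⟩
  have hnt : Nontrivial L := by
    refine ⟨⟨u, 1, ?_⟩⟩
    rintro rfl
    rw [orderOf_one] at hu
    norm_num at hu
  refine { eq_bot_or_eq_top_of_normal := ?_ }
  intro N hN
  by_cases ho : 2 ∣ Nat.card N
  · right
    -- all involutions are in `N`
    obtain ⟨v, hv⟩ := exists_prime_orderOf_dvd_card' (G := N) 2 ho
    have hv' : orderOf (v : L) = 2 := by rw [Subgroup.orderOf_coe, hv]
    have hinv : ∀ w : L, orderOf w = 2 → w ∈ N := by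
      intro w hw
      obtain ⟨g, hg⟩ := isConj_inv h hv' hw
      have h3 : w = g⁻¹ * v * g := by rw [← hg]; group
      rw [h3]
      have := hN.conj_mem v v.2 g⁻¹
      rwa [inv_inv] at this
    have hcen : ∀ w : L, orderOf w = 2 → centralizer ({w} : Set L) ≤ N := by
      intro w hw
      obtain ⟨e⟩ := h w hw
      have h3 : (N.subgroupOf (centralizer ({w} : Set L))).map e.toMonoidHom = ⊤ := by
        apply eq_top_of_inv
        intro g hg
        obtain ⟨y, rfl⟩ := e.surjective g
        refine ⟨y, ?_, rfl⟩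
        change (y : L) ∈ N
        have hyy : y * y = 1 := by
          apply e.injective
          rw [map_mul, hg, map_one]
        by_cases hy1 : y = 1
        · rw [hy1]; exact one_mem N
        · apply hinv
          rw [Subgroup.orderOf_coe]
          exact orderOf_eq_prime (by rw [pow_two]; exact hyy) hy1
      intro c hc
      have h4 : e ⟨c, hc⟩ ∈ (N.subgroupOf (centralizer ({w} : Set L))).map e.toMonoidHom := by rw [h3]; exact mem_top _
      obtain ⟨d, hd, hde⟩ := h4
      have h5 : d = ⟨c, hc⟩ := e.injective hde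
      rw [h5] at hd
      exact hd
    -- Frattini
    obtain ⟨S, hS, huS⟩ := exists_syl_le h hu
    rw [eq_top_iff]
    intro g _
    -- the conjugate of `S` by `g` is conjugate to `S` in `N`
    have hSN : (S : Subgroup L) ≤ N := hS.trans (hcen u hu)
    obtain ⟨T, hT⟩ : ∃ T : Sylow 2 N, (T : Subgroup N) = (S : Subgroup L).subgroupOf N := by
      refine ⟨S.subtype hSN, rfl⟩
    have hfr := Sylow.normalizer_sup_eq_top T
    have hg : g ∈ normalizer (((T : Subgroup N).map N.subtype : Subgroup L) : Set L) ⊔ N := by rw [hfr]; exact mem_top g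
    have hle : normalizer (((T : Subgroup N).map N.subtype : Subgroup L) : Set L) ≤ N := by
      have h6 : (T : Subgroup N).map N.subtype = (S : Subgroup L) := by
        rw [hT, Subgroup.map_subgroupOf_eq_of_le hSN]
      rw [h6]
      intro x hx
      -- `x` centralises `u`
      have h7 : x * u * x⁻¹ = u := by
        refine eq_of_central h hu (w := x * u * x⁻¹) ?_ hS ?_ ((mem_normalizer_iff.1 hx u).1 huS)
        · have := MulEquiv.orderOf_eq (MulAut.conj x) u
          rw [MulAut.conj_apply] at this
          rw [this, hu]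
        · intro y hy
          rw [mem_centralizer_singleton_iff]
          have hy' : x⁻¹ * y * x ∈ (S : Subgroup L) := by
            have := (mem_normalizer_iff.1 (inv_mem hx) y).1 hy
            rwa [inv_inv] at this
          have h3 := mem_centralizer_singleton_iff.1 (hS hy')
          calc y * (x * u * x⁻¹) = x * ((x⁻¹ * y * x) * u) * x⁻¹ := by group
            _ = x * (u * (x⁻¹ * y * x)) * x⁻¹ := by rw [h3]
            _ = x * u * x⁻¹ * y := by group
      exact hcen u hu (mem_centralizer_singleton_iff.2 (mul_inv_eq_iff_eq_mul.1 h7))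
    rwa [sup_eq_right.2 hle] at hg
  · left
    exact odd_bot h hu N ho

end

end Cfsg.Agent.H657.M13
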